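/-
The characters of a transitive group of degree `2p` with a self-centralizing element of order `p`
inverted by an involution (Ito's analysis).

Main result: `Cfsg.Agent.DegTwoP.exists_characters`.
-/
import Mathlib
import Cfsg.Prelude.Def_Characters
import Cfsg.Agent.Lib.Char.Induced
import Cfsg.Agent.Lib.Char.Virtual
import Cfsg.Agent.Lib.Char.ClassMult

set_option autoImplicit false

namespace Cfsg.Agent.DegTwoP

open Cfsg Cfsg.Agent.Char
open scoped ComplexConjugate

variable {p : ℕ} [Fact p.Prime]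

theorem pC_ne : (p : ℂ) ≠ 0 := Nat.cast_ne_zero.2 (Nat.Prime.ne_zero Fact.out)

/-- The standard character of `ZMod p`. -/
noncomputable abbrev om : AddChar (ZMod p) ℂ := ZMod.stdAddChar

theorem sum_om (b : ZMod p) : ∑ j : ZMod p, om (b * j) = if b = 0 then (p : ℂ) else 0 := by
  have h := AddChar.sum_mulShift b (ZMod.isPrimitive_stdAddChar p)
  rw [ZMod.card] at h
  simp only [mul_comm b]
  exact_mod_cast h

theorem conj_om (a : ZMod p) : conj (om a) = om (-a) :=
  (AddChar.map_neg_eq_conj (ψ := om) a).symm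

theorem sum_om_shift (b : ZMod p) (j : ZMod p) :
    ∑ i : ZMod p, om (i * j) * om (-(i * b)) = if j = b then (p : ℂ) else 0 := by
  have h : ∀ i : ZMod p, om (i * j) * om (-(i * b)) = om ((j - b) * i) := fun i => by
    rw [← AddChar.map_add_eq_mul]; congr 1; ring
  rw [Finset.sum_congr rfl fun i _ => h i, sum_om]
  exact if_congr sub_eq_zero rfl rfl

/-- The data: `e` parametrizes `⟨x⟩`. -/
structure Data (p : ℕ) (G : Type*) [Group G] where
  X : Subgroup G
  e : ZMod p ≃ X
  e_add : ∀ a b, e (a + b) = e a * e b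
  t : G
  t_sq : t * t = 1
  t_not : t ∉ X
  t_inv : ∀ a, t * (e a : G) * t = e (-a)
  five : 5 ≤ p
  norm : ∀ g : G, ∀ a : ZMod p, a ≠ 0 → g⁻¹ * (e a : G) * g ∈ X → g ∈ X ∨ t * g ∈ X

theorem natCast_ne_zero' {k : ℕ} (h0 : 0 < k) (hk : k < p) : (k : ZMod p) ≠ 0 := fun h =>
  absurd (Nat.le_of_dvd h0 ((ZMod.natCast_eq_zero_iff k p).1 h)) (by omega)

theorem eq_zero_of_add_self (hp : 3 ≤ p) (a : ZMod p) (h : a + a = 0) : a = 0 := by
  have h2 : ((2 : ℕ) : ZMod p) ≠ 0 := natCast_ne_zero' (by norm_num) (by omega)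
  rw [← two_mul] at h
  exact (mul_eq_zero.1 h).resolve_left (by exact_mod_cast h2)

variable {G : Type*} [Group G] [Fintype G] (D : Data p G)

set_option linter.unusedSectionVars false

omit [Fintype G] in
theorem e_zero : (D.e 0 : G) = 1 := by
  have h := D.e_add 0 0
  rw [add_zero, left_eq_mul] at h
  rw [h]; rfl

omit [Fintype G] in
theorem e_mul (a b : ZMod p) : (D.e a : G) * (D.e b : G) = D.e (a + b) := by
  rw [D.e_add]; rfl

omit [Fintype G] in
theorem e_inv (a : ZMod p) : ((D.e a : G))⁻¹ = D.e (-a) := by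
  refine (eq_inv_of_mul_eq_one_left ?_).symm
  rw [e_mul, neg_add_cancel, e_zero]

theorem card_X : Nat.card D.X = p := by
  rw [← Nat.card_congr D.e]; simp

/-- `λ_i` as a homomorphism. -/
noncomputable def lam (i : ZMod p) : D.X →* ℂ where
  toFun u := om (i * D.e.symm u)
  map_one' := by
    have : D.e.symm 1 = 0 := by
      rw [Equiv.symm_apply_eq]; exact Subtype.ext (by rw [e_zero]; rfl)
    rw [this, mul_zero, AddChar.map_zero_eq_one]
  map_mul' u v := by
    have : D.e.symm (u * v) = D.e.symm u + D.e.symm v := by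
      rw [Equiv.symm_apply_eq, D.e_add, Equiv.apply_symm_apply, Equiv.apply_symm_apply]
    rw [this, mul_add, AddChar.map_add_eq_mul]

/-- The induced generalized character `θ_i`. -/
noncomputable def theta (i : ZMod p) : G → ℂ :=
  indFun D.X (fun u => 1 - lam D i u)

theorem theta_gen (i : ZMod p) : IsGeneralizedCharacter G (theta D i) := by
  classical
  refine IsGeneralizedCharacter.indFun ?_
  exact ⟨fun _ => 1, lam D i, IsIrrCharacter.isCharacter isIrrCharacter_one, isCharacter_of_hom _, rfl⟩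

theorem theta_class (i : ZMod p) : IsClassFunction G (theta D i) := indFun_isClassFunction _ _

theorem theta_apply_e (i j : ZMod p) :
    theta D i (D.e j : G) = 2 - om (i * j) - om (-(i * j)) := by
  classical
  by_cases hj : j = 0
  · subst hj
    rw [e_zero, theta, indFun_one_apply, mul_zero, neg_zero, AddChar.map_zero_eq_one, map_one]
    ring
  let S₁ : Finset G := Finset.univ.image fun a : ZMod p => (D.e a : G)
  let S₂ : Finset G := Finset.univ.image fun a : ZMod p => D.t * (D.e a : G)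
  have hd : Disjoint S₁ S₂ := by
    rw [Finset.disjoint_left]
    intro g h1 h2
    obtain ⟨a, -, rfl⟩ := Finset.mem_image.1 h1
    obtain ⟨b, -, hb⟩ := Finset.mem_image.1 h2
    refine D.t_not ?_
    have : D.t = (D.e a : G) * (D.e b : G)⁻¹ := by rw [← hb]; group
    rw [this]
    exact D.X.mul_mem (D.e a).2 (D.X.inv_mem (D.e b).2)
  have hext : ∀ a : ZMod p, extendByZero D.X (fun u => 1 - lam D i u) (D.e a : G) =
      1 - om (i * a) := fun a => by
    rw [extendByZero_coe]; simp [lam]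
  have h0 : ∑ g : G, extendByZero D.X (fun u => 1 - lam D i u) (g⁻¹ * (D.e j : G) * g) =
      ∑ g ∈ S₁ ∪ S₂, extendByZero D.X (fun u => 1 - lam D i u) (g⁻¹ * (D.e j : G) * g) := by
    symm
    refine Finset.sum_subset (Finset.subset_univ _) fun g _ hg => extendByZero_not_mem _ _ fun hm => hg ?_
    rcases D.norm g j hj hm with h | h
    · refine Finset.mem_union_left _ (Finset.mem_image.2 ⟨D.e.symm ⟨g, h⟩, Finset.mem_univ _, ?_⟩)
      simp
    · refine Finset.mem_union_right _ (Finset.mem_image.2 ⟨D.e.symm ⟨_, h⟩, Finset.mem_univ _, ?_⟩)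
      simp [← mul_assoc, D.t_sq]
  have h1 : ∀ a : ZMod p, (D.e a : G)⁻¹ * (D.e j : G) * (D.e a : G) = D.e j := fun a => by
    rw [e_inv, e_mul, e_mul]; congr 2; ring
  have h2 : ∀ a : ZMod p, (D.t * (D.e a : G))⁻¹ * (D.e j : G) * (D.t * (D.e a : G)) = D.e (-j) := by
    intro a
    have ht : D.t⁻¹ = D.t := inv_eq_of_mul_eq_one_left D.t_sq
    calc (D.t * (D.e a : G))⁻¹ * (D.e j : G) * (D.t * (D.e a : G))
        = (D.e a : G)⁻¹ * (D.t * (D.e j : G) * D.t) * (D.e a : G) := by
          rw [mul_inv_rev, ht]; group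
      _ = _ := by rw [D.t_inv, e_inv, e_mul, e_mul]; congr 2; ring
  unfold theta indFun
  rw [h0, Finset.sum_union hd, Finset.sum_image, Finset.sum_image, card_X]
  · simp only [h1, h2, hext, Finset.sum_const, Finset.card_univ, ZMod.card, nsmul_eq_mul, mul_neg]
    push_cast; field_simp [pC_ne (p := p)]; ring
  · intro a _ b _ h
    exact D.e.injective (Subtype.ext (mul_left_cancel h))
  · intro a _ b _ h
    exact D.e.injective (Subtype.ext h)

theorem theta_t (i : ZMod p) : theta D i D.t = 0 := by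
  classical
  unfold theta indFun
  rw [Finset.sum_eq_zero, mul_zero]
  intro g _
  refine extendByZero_not_mem _ _ fun hm => ?_
  have hsq : (g⁻¹ * D.t * g) * (g⁻¹ * D.t * g) = 1 := by
    calc (g⁻¹ * D.t * g) * (g⁻¹ * D.t * g) = g⁻¹ * (D.t * D.t) * g := by group
      _ = 1 := by rw [D.t_sq, mul_one, inv_mul_cancel]
  obtain ⟨a, ha⟩ : ∃ a, (D.e a : G) = g⁻¹ * D.t * g := ⟨D.e.symm ⟨_, hm⟩, by simp⟩
  rw [← ha, e_mul, ← e_zero D] at hsq
  have h2 : a + a = 0 := D.e.injective (Subtype.ext hsq)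
  have ha0 : a = 0 := eq_zero_of_add_self (le_trans (by norm_num) D.five) a h2
  rw [ha0, e_zero] at ha
  apply D.t_not
  have : D.t = 1 := by
    calc D.t = g * (g⁻¹ * D.t * g) * g⁻¹ := by group
      _ = 1 := by rw [← ha]; group
  rw [this]; exact D.X.one_mem

/-- Inner products on `X` as sums over `ZMod p`. -/
theorem inner_theta (i : ZMod p) {χ : G → ℂ} (hχ : IsClassFunction G χ) :
    classInner (theta D i) χ =
      (p : ℂ)⁻¹ * ∑ j : ZMod p, (1 - om (i * j)) * conj (χ (D.e j : G)) := by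
  classical
  rw [theta, frobenius_reciprocity _ _ hχ, classInner, card_X]
  congr 1
  refine (Fintype.sum_equiv D.e _ _ fun j => ?_).symm
  simp [lam]

theorem theta_inner (i k : ZMod p) :
    classInner (theta D i) (theta D k) =
      (if i = 0 then 0 else if k = 0 then 0 else
        2 + (if i + k = 0 then 1 else 0) + (if i = k then 1 else 0) : ℂ) := by
  rw [inner_theta D i (theta_class D k)]
  have hsimp : ∀ j : ZMod p, (1 - om (i * j)) * conj (theta D k (D.e j : G)) =
      2 * om (0 * j) - om (k * j) - om ((-k) * j) - 2 * om (i * j) + om ((i + k) * j) +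
        om ((i - k) * j) := by
    intro j
    rw [theta_apply_e, map_sub, map_sub, conj_om, conj_om, neg_neg, map_ofNat, zero_mul,
      AddChar.map_zero_eq_one, neg_mul, add_mul, sub_mul i k j, sub_eq_add_neg (i * j) (k * j),
      AddChar.map_add_eq_mul, AddChar.map_add_eq_mul]
    ring
  simp only [hsimp, Finset.sum_add_distrib, Finset.sum_sub_distrib, ← Finset.mul_sum, sum_om]
  by_cases hi : i = 0
  · subst hi
    by_cases hk : k = 0 <;> simp [hk, neg_eq_zero] <;> (try field_simp [pC_ne (p := p)]) <;> norm_num <;> (try right) <;> ring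
  by_cases hk : k = 0
  · subst hk; simp [hi]; right; ring
  simp only [hi, hk, neg_eq_zero, if_false, if_true, sub_eq_zero]
  split_ifs <;> field_simp [pC_ne (p := p)] <;> ring

/-- Values on `X` from the coefficients `⟨θ_i, χ⟩`. -/
theorem value_eq {χ : G → ℂ} (hχ : IsClassFunction G χ) (k : ZMod p) :
    conj (χ (D.e k : G)) =
      (if k = 0 then ∑ j : ZMod p, conj (χ (D.e j : G)) else 0) -
        ∑ i : ZMod p, classInner (theta D i) χ * om (-(i * k)) := by
  have e1 : ∀ i : ZMod p, classInner (theta D i) χ * om (-(i * k)) =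
      (p : ℂ)⁻¹ * ((∑ j : ZMod p, conj (χ (D.e j : G))) * om (-(i * k)) -
        ∑ j : ZMod p, conj (χ (D.e j : G)) * (om (i * j) * om (-(i * k)))) := by
    intro i
    rw [inner_theta D i hχ, mul_assoc]
    congr 1
    rw [Finset.sum_mul, Finset.sum_mul, ← Finset.sum_sub_distrib]
    exact Finset.sum_congr rfl fun j _ => by ring
  rw [Finset.sum_congr rfl fun i _ => e1 i, ← Finset.mul_sum, Finset.sum_sub_distrib, ← Finset.mul_sum,
    Finset.sum_comm]
  have e2 : ∀ j : ZMod p, ∑ i : ZMod p, conj (χ (D.e j : G)) * (om (i * j) * om (-(i * k))) =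
      if j = k then (p : ℂ) * conj (χ (D.e j : G)) else 0 := by
    intro j
    rw [← Finset.mul_sum, sum_om_shift]
    split_ifs <;> ring
  have e3 : ∑ i : ZMod p, om (-(i * k)) = if k = 0 then (p : ℂ) else 0 := by
    have e : ∀ i : ZMod p, om (-(i * k)) = om ((-k) * i) := fun i => by congr 1; ring
    rw [Finset.sum_congr rfl fun i _ => e i, sum_om]
    exact if_congr neg_eq_zero rfl rfl
  rw [Finset.sum_congr rfl fun j _ => e2 j, Finset.sum_ite_eq', if_pos (Finset.mem_univ _), e3]
  split_ifs <;> field_simp [pC_ne (p := p)] <;> ring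

/-- `θ_i` vanishes on elements of even order. -/
theorem theta_even (i : ZMod p) {x : G} (hx : Even (orderOf x)) : theta D i x = 0 := by
  classical
  unfold theta indFun
  rw [Finset.sum_eq_zero, mul_zero]
  intro g _
  refine extendByZero_not_mem _ _ fun hm => ?_
  have h1 : orderOf (g⁻¹ * x * g) = orderOf x := by
    have h := MulEquiv.orderOf_eq (MulAut.conj g⁻¹) x
    rwa [MulAut.conj_apply, inv_inv] at h
  have h2 : orderOf (⟨g⁻¹ * x * g, hm⟩ : D.X) ∣ p := (orderOf_dvd_natCard _).trans (card_X D).dvd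
  rw [Subgroup.orderOf_mk, h1] at h2
  have h3 : 2 ∣ p := hx.two_dvd.trans h2
  have := D.five
  rcases (Nat.dvd_prime (Fact.out : p.Prime)).1 h3 with h | h <;> omega

omit [Fintype G] in
theorem conj_t (a : ZMod p) : IsConj D.t (D.t * (D.e a : G)) := by
  have h2 : ((2 : ℕ) : ZMod p) ≠ 0 := natCast_ne_zero' (by norm_num) (by have := D.five; omega)
  push_cast at h2
  obtain ⟨b, hb⟩ : ∃ b : ZMod p, -b + -b = a := ⟨-(a / 2), by field_simp; ring⟩
  refine isConj_iff.2 ⟨(D.e b : G), ?_⟩
  have e1 : (D.e b : G) * D.t = D.t * D.e (-b) := by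
    rw [← D.t_inv, ← mul_assoc, ← mul_assoc, D.t_sq, one_mul]
  rw [e1, e_inv, mul_assoc, e_mul, hb]

omit [Fintype G] in
/-- An involution occurring as a left factor of `e 1` with an involution is `t e(a)`. -/
theorem exists_eq_mul {u v : G} (hu2 : u * u = 1) (hv2 : v * v = 1) (hu : u ≠ 1)
    (huv : u * v = (D.e 1 : G)) : ∃ a, D.t * (D.e a : G) = u := by
  have hm : u⁻¹ * (D.e 1 : G) * u ∈ D.X := by
    have : u⁻¹ * (D.e 1 : G) * u = (D.e 1 : G)⁻¹ := by
      rw [← huv, mul_inv_rev, inv_eq_of_mul_eq_one_left hu2, inv_eq_of_mul_eq_one_left hv2,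
        ← mul_assoc, hu2, one_mul]
    rw [this]; exact D.X.inv_mem (D.e 1).2
  rcases D.norm u 1 one_ne_zero hm with h | h
  · exfalso
    obtain ⟨a, ha⟩ : ∃ a, (D.e a : G) = u := ⟨D.e.symm ⟨u, h⟩, by simp⟩
    rw [← ha, e_mul, ← e_zero D] at hu2
    have h2 : a + a = 0 := D.e.injective (Subtype.ext hu2)
    rw [eq_zero_of_add_self (le_trans (by norm_num) D.five) a h2, e_zero] at ha
    exact hu ha.symm
  · obtain ⟨a, ha⟩ : ∃ a, (D.e a : G) = D.t * u := ⟨D.e.symm ⟨_, h⟩, by simp⟩
    exact ⟨a, by rw [ha, ← mul_assoc, D.t_sq, one_mul]⟩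

omit [Fintype G] in
theorem sq_of_isConj {x u : G} (hx : x * x = 1) (hu : IsConj x u) : u * u = 1 := by
  obtain ⟨c, rfl⟩ := isConj_iff.1 hu
  calc c * x * c⁻¹ * (c * x * c⁻¹) = c * (x * x) * c⁻¹ := by group
    _ = 1 := by rw [hx, mul_one, mul_inv_cancel]

theorem pairs_card (htn : D.t ≠ 1) :
    Nat.card {q : G × G // IsConj D.t q.1 ∧ IsConj D.t q.2 ∧ q.1 * q.2 = (D.e 1 : G)} = p := by
  have hmul : ∀ a, D.t * (D.e a : G) * (D.t * (D.e (a + 1) : G)) = D.e 1 := by
    intro a
    rw [← mul_assoc, D.t_inv, e_mul]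
    congr 2; ring
  let f : ZMod p → {q : G × G // IsConj D.t q.1 ∧ IsConj D.t q.2 ∧ q.1 * q.2 = (D.e 1 : G)} :=
    fun a => ⟨(D.t * (D.e a : G), D.t * (D.e (a + 1) : G)), conj_t D _, conj_t D _, hmul a⟩
  have hf : Function.Bijective f := by
    refine ⟨fun a b h => D.e.injective (Subtype.ext (mul_left_cancel
      (congrArg (fun q => q.1.1) h))), ?_⟩
    rintro ⟨⟨u, v⟩, hu, hv, huv⟩
    simp only at huv hu hv
    obtain ⟨a, hua⟩ := exists_eq_mul D (sq_of_isConj D.t_sq hu) (sq_of_isConj D.t_sq hv)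
      (fun h => htn (isConj_one_left.1 (h ▸ hu))) huv
    refine ⟨a, Subtype.ext (Prod.ext hua ?_)⟩
    show D.t * (D.e (a + 1) : G) = v
    refine mul_left_cancel (a := u) ?_
    conv_lhs => rw [← hua]
    rw [hmul, huv]
  rw [← Nat.card_congr (Equiv.ofBijective f hf)]
  simp

theorem pairs_zero {x : G} (hx : x * x = 1) (hx1 : x ≠ 1) (hxt : ¬ IsConj D.t x) :
    Nat.card {q : G × G // IsConj x q.1 ∧ IsConj x q.2 ∧ q.1 * q.2 = (D.e 1 : G)} = 0 := by
  rw [Nat.card_eq_zero]
  left
  refine ⟨fun ⟨⟨u, v⟩, hu, hv, huv⟩ => ?_⟩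
  obtain ⟨a, hua⟩ := exists_eq_mul D (sq_of_isConj hx hu) (sq_of_isConj hx hv)
    (fun h => hx1 (isConj_one_left.1 (h ▸ hu))) huv
  exact hxt ((conj_t D a).trans (hua ▸ hu.symm))

theorem exists_characters
    (π : G → ℂ) (hπ : IsCharacter G π) (hπ1 : classInner π (1 : G → ℂ) = 1) (hπd : π 1 = 2 * (p : ℂ))
    (hπx : ∀ a : ZMod p, a ≠ 0 → π (D.e a : G) = 0)
    (r : ℕ) (hr : 3 ≤ r) (hπr : classInner π π = (r : ℂ))
    (hlin : ∀ χ : G → ℂ, IsIrrCharacter G χ → χ 1 = 1 → χ = 1) :
    ∃ (A R : IrrCharacter G) (F : Finset (IrrCharacter G)),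
      (∀ g, π g = 1 + (A : G → ℂ) g + (R : G → ℂ) g) ∧ (A : G → ℂ) 1 = (p : ℂ) - 1 ∧
      (R : G → ℂ) 1 = (p : ℂ) ∧ (∀ a : ZMod p, a ≠ 0 → (A : G → ℂ) (D.e a : G) = -1) ∧
      classInner π π = 3 ∧
      p ≤ 2 * F.card + 1 ∧ (∀ χ ∈ F, (χ : G → ℂ) ≠ 1) ∧
      (∀ χ ∈ F, ∀ x : G, Even (orderOf x) → (χ : G → ℂ) x = (A : G → ℂ) x - 1) ∧
      ∀ x y : G, Even (orderOf x) → Even (orderOf y) →
        (Nat.card {q : G × G // IsConj x q.1 ∧ IsConj y q.2 ∧ q.1 * q.2 = (D.e 1 : G)} : ℂ) =
          (Nat.card {z : G // IsConj x z} : ℂ) * (Nat.card {z : G // IsConj y z} : ℂ) /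
            (Nat.card G : ℂ) * (1 - (A : G → ℂ) x * (A : G → ℂ) y / ((p : ℂ) - 1) +
              ((A : G → ℂ) x - 1) * ((A : G → ℂ) y - 1) / ((p : ℂ) - 2)) := by
  classical
  have := Fintype.ofFinite (IrrCharacter G)
  have hp5 := D.five
  let one : IrrCharacter G := ⟨1, isIrrCharacter_one⟩
  choose c hcsum hc hcn using fun i => IsGeneralizedCharacter.exists_coeffs (theta_gen D i)
  choose dg hdgpos hdg using fun χ : IrrCharacter G => IsIrrCharacter.exists_degree χ.2
  have hdg1 : ∀ χ, 1 ≤ dg χ := fun χ => Nat.one_le_iff_ne_zero.2 fun h =>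
    IsIrrCharacter.apply_one_ne_zero χ.2 (by rw [hdg, h, Nat.cast_zero])
  have hcl : ∀ χ : IrrCharacter G, IsClassFunction G (χ : G → ℂ) := fun χ =>
    IsIrrCharacter.isClassFunction χ.2
  have hdo : dg one = 1 := by
    have h := hdg one
    rw [show (one : G → ℂ) 1 = 1 from rfl] at h
    exact_mod_cast h.symm
  -- coefficient of the principal character
  have hc0 : ∀ χ, c 0 χ = 0 := by
    intro χ
    have h := hc 0 χ
    rw [inner_theta D 0 (hcl χ)] at h
    simp at h
    exact_mod_cast h.symm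
  have hc1 : ∀ i, i ≠ 0 → c i one = 1 := by
    intro i hi
    have h := hc i one
    rw [inner_theta D i (hcl one)] at h
    simp only [one, Pi.one_apply, map_one, mul_one, Finset.sum_sub_distrib, Finset.sum_const,
      Finset.card_univ, ZMod.card, nsmul_eq_mul, sum_om, hi, if_false, sub_zero] at h
    rw [inv_mul_cancel₀ (pC_ne (p := p))] at h
    exact_mod_cast h.symm
  have hinner : ∀ i k, ((∑ χ, c i χ * c k χ : ℤ) : ℂ) = classInner (theta D i) (theta D k) := by
    intro i k
    rw [classInner_eq_sum (theta_class D i)]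
    push_cast
    exact Finset.sum_congr rfl fun χ _ => by rw [hc, hc, map_intCast]
  have hdeg0 : ∀ i, ∑ χ, c i χ * (dg χ : ℤ) = 0 := by
    intro i
    have h := congrFun (hcsum i) 1
    have h1 : theta D i 1 = 0 := by
      rw [← e_zero D, theta_apply_e, mul_zero, neg_zero, AddChar.map_zero_eq_one]; ring
    rw [h1, Finset.sum_apply] at h
    simp only [Pi.smul_apply, smul_eq_mul, hdg] at h
    exact_mod_cast h.symm
  obtain ⟨mm, hmsum, hm⟩ := IsCharacter.decompose hπ
  have hm1 : mm one = 1 := by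
    have h := hm one
    rw [show (one : G → ℂ) = 1 from rfl, hπ1] at h
    exact_mod_cast h.symm
  have hπi : ∀ i, ∑ χ, c i χ * (mm χ : ℤ) = 0 := by
    intro i
    have h : classInner (theta D i) π = 0 := by
      rw [inner_theta D i (IsCharacter.isClassFunction hπ),
        Finset.sum_eq_single (0 : ZMod p)]
      · simp
      · intro j _ hj; rw [hπx j hj]; simp
      · simp
    rw [classInner_eq_sum (theta_class D i)] at h
    simp only [hc, hm, map_natCast] at h
    exact_mod_cast h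
  have hπdeg : ∑ χ, mm χ * dg χ = 2 * p := by
    have h := congrFun hmsum 1
    rw [hπd, Finset.sum_apply] at h
    simp only [Pi.smul_apply, smul_eq_mul, hdg] at h
    exact_mod_cast h.symm
  -- the two non-principal constituents
  have hAB : ∀ i, i ≠ 0 → ∃ A B : IrrCharacter G, A ≠ B ∧ A ≠ one ∧ B ≠ one ∧ c i A = -1 ∧
      c i B = 1 ∧ (∀ χ, χ ≠ one → χ ≠ A → χ ≠ B → c i χ = 0) ∧
      dg A = dg B + 1 ∧ mm A = mm B + 1 := by
    intro i hi
    let S := (Finset.univ.erase one).filter fun χ => c i χ ≠ 0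
    have hS : ∑ χ ∈ S, c i χ ^ 2 = 2 := by
      have h := hcn i
      rw [theta_inner, if_neg hi, if_neg hi, if_pos rfl] at h
      have hni : i + i ≠ 0 := fun h => hi (eq_zero_of_add_self (le_trans (by norm_num) hp5) i h)
      rw [if_neg hni] at h
      have h3 : ∑ χ, c i χ ^ 2 = 3 := by
        have : ((3 : ℤ) : ℂ) = ((∑ χ, c i χ ^ 2 : ℤ) : ℂ) := by rw [← h]; norm_num
        exact_mod_cast this.symm
      rw [← Finset.add_sum_erase _ _ (Finset.mem_univ one), hc1 i hi] at h3
      have h4 : ∑ χ ∈ S, c i χ ^ 2 = ∑ χ ∈ Finset.univ.erase one, c i χ ^ 2 :=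
        Finset.sum_filter_of_ne (fun χ _ h h0 => h (by rw [h0]; norm_num))
      rw [h4]
      linarith
    have hsq : ∀ χ ∈ S, c i χ ^ 2 = 1 := by
      intro χ hχ
      have h1 := Finset.single_le_sum (f := fun χ => c i χ ^ 2) (fun χ _ => sq_nonneg _) hχ
      rw [hS] at h1
      have h2 := (Finset.mem_filter.1 hχ).2
      have h3 : -2 < c i χ ∧ c i χ < 2 := ⟨by nlinarith, by nlinarith⟩
      have h4 : c i χ = 1 ∨ c i χ = -1 := by omega
      rcases h4 with h4 | h4 <;> rw [h4] <;> norm_num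
    have hcard : S.card = 2 := by
      rw [Finset.sum_congr rfl hsq, Finset.sum_const, nsmul_one] at hS
      exact_mod_cast hS
    obtain ⟨A, B, hne, hSeq⟩ := Finset.card_eq_two.1 hcard
    have hA1 : c i A = 1 ∨ c i A = -1 := sq_eq_one_iff.1 (hsq A (by simp [hSeq]))
    have hB1 : c i B = 1 ∨ c i B = -1 := sq_eq_one_iff.1 (hsq B (by simp [hSeq]))
    have hAo : A ≠ one := (Finset.mem_erase.1 (Finset.mem_filter.1 (hSeq ▸ (by simp) : A ∈ S)).1).1
    have hBo : B ≠ one := (Finset.mem_erase.1 (Finset.mem_filter.1 (hSeq ▸ (by simp) : B ∈ S)).1).1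
    have hz : ∀ χ, χ ≠ one → χ ≠ A → χ ≠ B → c i χ = 0 := by
      intro χ h1 h2 h3
      by_contra h
      have : χ ∈ S := Finset.mem_filter.2 ⟨Finset.mem_erase.2 ⟨h1, Finset.mem_univ _⟩, h⟩
      rw [hSeq] at this
      simp [h2, h3] at this
    have hsum3 : ∀ f : IrrCharacter G → ℤ, ∑ χ, c i χ * f χ = f one + c i A * f A + c i B * f B := by
      intro f
      rw [← Finset.add_sum_erase _ _ (Finset.mem_univ one), hc1 i hi, one_mul, add_assoc]
      congr 1
      rw [← Finset.sum_subset (s₁ := {A, B}) (by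
          intro χ hχ
          rcases Finset.mem_insert.1 hχ with rfl | h
          · simp [hAo]
          · rw [Finset.mem_singleton] at h; subst h; simp [hBo])
        (fun χ hχ h => by
          simp only [Finset.mem_insert, Finset.mem_singleton, not_or] at h
          rw [hz χ (Finset.mem_erase.1 hχ).1 h.1 h.2, zero_mul]), Finset.sum_pair hne]
    have hd := hdeg0 i
    rw [hsum3] at hd
    have hdo : dg one = 1 := by
      have h := hdg one
      rw [show (one : G → ℂ) 1 = 1 from rfl] at h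
      exact_mod_cast h.symm
    have hp := hπi i
    rw [hsum3, hm1] at hp
    have := hdg1 A
    have := hdg1 B
    rcases hA1 with hA1 | hA1 <;> rcases hB1 with hB1 | hB1 <;> rw [hA1, hB1] at hd hp <;>
      rw [hdo] at hd
    · omega
    · exact ⟨B, A, hne.symm, hBo, hAo, hB1, hA1, fun χ a b d => hz χ a d b, by omega, by omega⟩
    · exact ⟨A, B, hne, hAo, hBo, hA1, hB1, hz, by omega, by omega⟩
    · omega
  choose A B hne hAo hBo hcA hcB hcz hdAB hmAB using hAB
  have hval : ∀ i (hi : i ≠ 0) χ, χ ≠ one →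
      c i χ = if χ = A i hi then -1 else if χ = B i hi then 1 else 0 := by
    intro i hi χ hχ
    split_ifs with h1 h2
    · rw [h1, hcA]
    · rw [h2, hcB]
    · exact hcz i hi χ hχ h1 h2
  have hpair : ∀ i (hi : i ≠ 0) k (hk : k ≠ 0),
      ((i + k = 0 ∨ i = k) → A i hi = A k hk ∧ B i hi = B k hk) ∧
      ((i + k ≠ 0 ∧ i ≠ k) → (A i hi = A k hk ∨ B i hi = B k hk) ∧
        ¬ (A i hi = A k hk ∧ B i hi = B k hk)) := by
    intro i hi k hk
    have h := hinner i k
    rw [theta_inner, if_neg hi, if_neg hk] at h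
    have hsplit : ∑ χ, c i χ * c k χ = 1 - c k (A i hi) + c k (B i hi) := by
      rw [← Finset.add_sum_erase _ _ (Finset.mem_univ one), hc1 i hi, hc1 k hk, one_mul, sub_add_eq_add_sub,
        add_sub_assoc]
      congr 1
      rw [← Finset.sum_subset (s₁ := {A i hi, B i hi}) (by
          intro χ hχ
          rcases Finset.mem_insert.1 hχ with rfl | h
          · simp [hAo]
          · rw [Finset.mem_singleton] at h; subst h; simp [hBo])
        (fun χ hχ h => by
          simp only [Finset.mem_insert, Finset.mem_singleton, not_or] at h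
          rw [hcz i hi χ (Finset.mem_erase.1 hχ).1 h.1 h.2, zero_mul]),
        Finset.sum_pair (hne i hi), hcA, hcB]
      ring
    rw [hsplit] at h
    have vA := hval k hk (A i hi) (hAo i hi)
    have vB := hval k hk (B i hi) (hBo i hi)
    have hni : i + i ≠ 0 := fun h => hi (eq_zero_of_add_self (le_trans (by norm_num) hp5) i h)
    constructor
    · intro hik
      have hr : (1 : ℤ) - c k (A i hi) + c k (B i hi) = 3 := by
        rcases hik with e | e
        · have hne' : i ≠ k := fun h => hni (by rw [h] at e ⊢; exact e)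
          rw [if_pos e, if_neg hne'] at h
          exact_mod_cast h.trans (by norm_num : ((2 : ℂ) + 1 + 0) = ((3 : ℤ) : ℂ))
        · have hne' : i + k ≠ 0 := fun h => hni (by rw [← e] at h; exact h)
          rw [if_neg hne', if_pos e] at h
          exact_mod_cast h.trans (by norm_num : ((2 : ℂ) + 0 + 1) = ((3 : ℤ) : ℂ))
      rw [vA, vB] at hr
      constructor <;> · by_contra hcon; simp only [hcon, if_false] at hr; split_ifs at hr <;> omega
    · intro hik
      rw [if_neg hik.1, if_neg hik.2] at h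
      have hr : (1 : ℤ) - c k (A i hi) + c k (B i hi) = 2 := by
        exact_mod_cast h.trans (by norm_num : ((2 : ℂ) + 0 + 0) = ((2 : ℤ) : ℂ))
      rw [vA, vB] at hr
      constructor
      · by_contra hcon
        rw [not_or] at hcon
        simp only [hcon.1, hcon.2, if_false] at hr
        split_ifs at hr <;> omega
      · rintro ⟨e1, e2⟩
        rw [e1, e2, if_pos rfl, if_neg (fun e => hne k hk e.symm), if_pos rfl] at hr
        omega
  -- congruence for degrees
  have hcong : ∀ χ : IrrCharacter G, (p : ℤ) ∣ (dg χ : ℤ) + ∑ i, c i χ := by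
    intro χ
    have h := value_eq D (hcl χ) 0
    simp only [e_zero, hdg, map_natCast, mul_zero, neg_zero, AddChar.map_zero_eq_one, mul_one,
      if_true, hc] at h
    obtain ⟨n, hn⟩ := IsCharacter.classInner_nat (IsIrrCharacter.isCharacter (isIrrCharacter_one (G := D.X)))
      (IsCharacter.restrict (IsIrrCharacter.isCharacter χ.2) D.X)
    have hs : ∑ j : ZMod p, conj ((χ : G → ℂ) (D.e j : G)) = (p : ℂ) * (n : ℂ) := by
      rw [← hn, classInner, card_X, ← mul_assoc]
      rw [mul_inv_cancel₀ (pC_ne (p := p)), one_mul]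
      simp only [Pi.one_apply, one_mul]
      exact Fintype.sum_equiv D.e _ _ fun j => rfl
    rw [hs] at h
    refine ⟨(n : ℤ), ?_⟩
    have : ((dg χ : ℤ) : ℂ) + ((∑ i, c i χ : ℤ) : ℂ) = (((p : ℤ) * n : ℤ) : ℂ) := by
      push_cast; rw [h]; ring
    exact_mod_cast this
  have h1 : (1 : ZMod p) ≠ 0 := one_ne_zero
  have huniv : (∀ i hi, A i hi = A 1 h1) ∨ (∀ i hi, B i hi = B 1 h1) := by
    by_contra hcon
    rw [not_or] at hcon
    push Not at hcon
    obtain ⟨⟨j, hj, hjA⟩, ⟨k, hk, hkB⟩⟩ := hcon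
    have hor : ∀ i (hi : i ≠ 0) k (hk : k ≠ 0), A i hi = A k hk ∨ B i hi = B k hk := by
      intro i hi k hk
      by_cases h : i + k = 0 ∨ i = k
      · exact Or.inl ((hpair i hi k hk).1 h).1
      · rw [not_or] at h; exact ((hpair i hi k hk).2 h).1
    have e1 := (hor j hj 1 h1).resolve_left hjA
    have e2 := (hor k hk 1 h1).resolve_right hkB
    rcases hor j hj k hk with e | e
    · exact hjA (e.trans e2)
    · exact hkB (e.symm.trans e1)
  have hmono : ∀ s : Finset (IrrCharacter G), one ∉ s → 1 + ∑ χ ∈ s, mm χ * dg χ ≤ 2 * p := by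
    intro s hs
    have hdo : dg one = 1 := by
      have h := hdg one
      rw [show (one : G → ℂ) 1 = 1 from rfl] at h
      exact_mod_cast h.symm
    have h := Finset.sum_le_sum_of_subset (f := fun χ => mm χ * dg χ) (Finset.subset_univ (insert one s))
    rw [hπdeg, Finset.sum_insert hs, hm1, hdo] at h
    omega
  have hconst : ∀ (χ : IrrCharacter G) (z : ℤ), (∀ i : ZMod p, i ≠ 0 → c i χ = z) →
      ∑ i, c i χ = z * ((p : ℤ) - 1) := by
    intro χ z hz
    rw [← Finset.add_sum_erase _ _ (Finset.mem_univ (0 : ZMod p)), hc0, zero_add,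
      Finset.sum_congr rfl (fun i hi => hz i (Finset.mem_erase.1 hi).1), Finset.sum_const,
      Finset.card_erase_of_mem (Finset.mem_univ _), Finset.card_univ, ZMod.card, nsmul_eq_mul,
      Nat.cast_sub (by omega)]
    push_cast; ring
  have h2 : (2 : ZMod p) ≠ 0 := by
    have := natCast_ne_zero' (p := p) (k := 2) (by norm_num) (by omega)
    exact_mod_cast this
  have h3 : (1 : ZMod p) + 2 ≠ 0 := by
    have := natCast_ne_zero' (p := p) (k := 3) (by norm_num) (by omega)
    exact_mod_cast this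
  have h12 : (1 : ZMod p) ≠ 2 := by
    intro h
    apply h1
    linear_combination -h
  have hA : ∀ i hi, A i hi = A 1 h1 := huniv.resolve_right fun hB => by
    have hBc : ∀ i : ZMod p, i ≠ 0 → c i (B 1 h1) = 1 := fun i hi => by rw [← hB i hi, hcB]
    have hd := hcong (B 1 h1)
    rw [hconst _ 1 hBc, one_mul] at hd
    have hd' : (p : ℤ) ∣ (dg (B 1 h1) : ℤ) - 1 := by
      obtain ⟨k, hk⟩ := hd
      exact ⟨k - 1, by linear_combination hk⟩
    have hne1 : dg (B 1 h1) ≠ 1 := fun h =>
      hBo 1 h1 (Subtype.ext (hlin _ (B 1 h1).2 (by rw [hdg, h, Nat.cast_one])))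
    have := hdg1 (B 1 h1)
    have hbig : p + 1 ≤ dg (B 1 h1) := by
      have h := Int.le_of_dvd (by omega) hd'
      omega
    have hA12 : A 1 h1 ≠ A 2 h2 := fun h =>
      ((hpair 1 h1 2 h2).2 ⟨h3, h12⟩).2 ⟨h, (hB 2 h2).symm⟩
    have hle := hmono {A 1 h1, A 2 h2} (by simp [(hAo 1 h1).symm, (hAo 2 h2).symm])
    rw [Finset.sum_pair hA12, hmAB 1 h1, hmAB 2 h2, hdAB 1 h1, hdAB 2 h2, hB 2 h2] at hle
    nlinarith
  let A0 := A 1 h1
  have hAc : ∀ i : ZMod p, i ≠ 0 → c i A0 = -1 := fun i hi => by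
    rw [show A0 = A i hi from (hA i hi).symm, hcA]
  have hAB0 : ∀ i hi, A0 ≠ B i hi := fun i hi e => hne i hi ((hA i hi).trans e)
  have hdA : (p : ℤ) ∣ (dg A0 : ℤ) + 1 := by
    have h := hcong A0
    rw [hconst _ (-1) hAc] at h
    obtain ⟨k, hk⟩ := h
    exact ⟨k + 1, by linear_combination hk⟩
  have hmA : 1 ≤ mm A0 := by rw [hmAB 1 h1]; omega
  have hsingle := hmono {A0} (by simpa using (hAo 1 h1).symm)
  rw [Finset.sum_singleton] at hsingle
  have hA_le : dg A0 ≤ mm A0 * dg A0 := Nat.le_mul_of_pos_left _ hmA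
  have hrest : ∀ s : Finset (IrrCharacter G), one ∈ s → ∑ χ ∈ s, mm χ * dg χ = 2 * p →
      ∀ χ ∉ s, mm χ = 0 := by
    intro s _ hs χ hχ
    have h := Finset.sum_add_sum_compl s (fun χ => mm χ * dg χ)
    rw [hπdeg, hs] at h
    have h0 : ∑ χ ∈ sᶜ, mm χ * dg χ = 0 := by omega
    rcases Nat.mul_eq_zero.1 (Finset.sum_eq_zero_iff.1 h0 χ (Finset.mem_compl.2 hχ)) with h | h
    · exact h
    · have := hdg1 χ; omega
  have hpi : ∀ s : Finset (IrrCharacter G), (∀ χ ∉ s, mm χ = 0) →
      ∀ g, π g = ∑ χ ∈ s, (mm χ : ℂ) * (χ : G → ℂ) g := by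
    intro s hs g
    have h := congrFun hmsum g
    rw [Finset.sum_apply] at h
    rw [h, Finset.sum_subset (Finset.subset_univ s) (fun χ _ hχ => by rw [hs χ hχ]; simp)]
    rfl
  have hnorm : ∀ s : Finset (IrrCharacter G), (∀ χ ∉ s, mm χ = 0) →
      classInner π π = ((∑ χ ∈ s, mm χ * mm χ : ℕ) : ℂ) := by
    intro s hs
    rw [classInner_eq_sum (IsCharacter.isClassFunction hπ),
      ← Finset.sum_subset (Finset.subset_univ s) (fun χ _ hχ => by simp [hm, hs χ hχ])]
    push_cast
    exact Finset.sum_congr rfl fun χ _ => by rw [hm, map_natCast]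
  have hdAp : dg A0 = p - 1 := by
    obtain ⟨k, hk⟩ := hdA
    have hk1 : 1 ≤ k := by nlinarith [hdg1 A0]
    have hk2 : k ≤ 2 := by
      by_contra h
      have : 3 * (p : ℤ) ≤ p * k := by nlinarith
      omega
    interval_cases k
    · omega
    · exfalso
      have e1 : mm A0 * dg A0 = 2 * p - 1 := by omega
      have e2 : mm A0 = 1 := by
        by_contra h
        have : 2 * dg A0 ≤ mm A0 * dg A0 := Nat.mul_le_mul_right _ (by omega)
        omega
      have hz := hrest {one, A0} (by simp) (by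
        rw [Finset.sum_pair (hAo 1 h1).symm, hm1, hdo, e1]; omega)
      have h := hnorm _ hz
      rw [hπr, Finset.sum_pair (hAo 1 h1).symm, hm1, e2] at h
      norm_cast at h
      omega
  have hdB : ∀ i hi, dg (B i hi) = p - 2 := by
    intro i hi
    have h := hdAB i hi
    rw [show A i hi = A0 from hA i hi, hdAp] at h
    omega
  have hmB : ∀ i hi, mm (B i hi) + 1 = mm A0 := fun i hi => by
    rw [show A0 = A i hi from (hA i hi).symm, hmAB i hi]
  have hBdist : ∀ i hi k hk, B i hi = B k hk → i + k = 0 ∨ i = k := by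
    intro i hi k hk h
    by_contra hcon
    rw [not_or] at hcon
    exact ((hpair i hi k hk).2 hcon).2 ⟨(hA i hi).trans (hA k hk).symm, h⟩
  have hmA1 : mm A0 = 1 := by
    by_contra h
    have hB12 : B 1 h1 ≠ B 2 h2 := fun h => by
      rcases hBdist 1 h1 2 h2 h with e | e
      · exact h3 e
      · exact h12 e
    have hle := hmono {A0, B 1 h1, B 2 h2} (by simp [A0, (hAo 1 h1).symm, (hBo 1 h1).symm, (hBo 2 h2).symm])
    rw [Finset.sum_insert (by simp [hAB0]), Finset.sum_pair hB12, hdAp, hdB, hdB] at hle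
    have e1 := hmB 1 h1
    have e2 := hmB 2 h2
    have : 2 * (p - 1) ≤ mm A0 * (p - 1) := Nat.mul_le_mul_right _ (by omega)
    have : 1 * (p - 2) ≤ mm (B 1 h1) * (p - 2) := Nat.mul_le_mul_right _ (by omega)
    have : 1 * (p - 2) ≤ mm (B 2 h2) * (p - 2) := Nat.mul_le_mul_right _ (by omega)
    omega
  have hmB0 : ∀ i hi, mm (B i hi) = 0 := fun i hi => by have := hmB i hi; omega
  -- the remaining constituent
  have hother : ∀ χ, χ ∉ ({one, A0} : Finset (IrrCharacter G)) → mm χ = 0 ∨ p ∣ dg χ := by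
    intro χ hχ
    simp only [Finset.mem_insert, Finset.mem_singleton, not_or] at hχ
    by_cases hz : ∃ i hi, B i hi = χ
    · obtain ⟨i, hi, rfl⟩ := hz
      exact Or.inl (hmB0 i hi)
    · right
      push Not at hz
      have h := hcong χ
      rw [hconst χ 0 (fun i hi => hcz i hi χ hχ.1 (by rw [hA i hi]; exact hχ.2) (fun e => hz i hi e.symm)),
        zero_mul, add_zero] at h
      exact_mod_cast h
  have htot := Finset.sum_add_sum_compl ({one, A0} : Finset (IrrCharacter G)) (fun χ => mm χ * dg χ)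
  rw [hπdeg, Finset.sum_pair (hAo 1 h1).symm, hm1, hdo, hmA1, hdAp] at htot
  have hO : ∑ χ ∈ ({one, A0} : Finset (IrrCharacter G))ᶜ, mm χ * dg χ = p := by omega
  obtain ⟨R, hRmem, hR0⟩ := Finset.exists_ne_zero_of_sum_ne_zero (by rw [hO]; omega :
    ∑ χ ∈ ({one, A0} : Finset (IrrCharacter G))ᶜ, mm χ * dg χ ≠ 0)
  have hRm : mm R ≠ 0 := fun h => hR0 (by rw [h, zero_mul])
  have hRle : mm R * dg R ≤ p := hO ▸ Finset.single_le_sum (f := fun χ => mm χ * dg χ) (by intros; simp) hRmem
  have hRd : dg R = p := by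
    rcases hother R (Finset.mem_compl.1 hRmem) with h | h
    · exact absurd h hRm
    · have := Nat.le_of_dvd (hdg1 R) h
      have : dg R ≤ mm R * dg R := Nat.le_mul_of_pos_left _ (Nat.pos_of_ne_zero hRm)
      omega
  have hRm1 : mm R = 1 := by
    rw [hRd] at hRle
    by_contra h
    have : 2 * p ≤ mm R * p := Nat.mul_le_mul_right _ (by omega)
    omega
  have hRne : R ≠ one ∧ R ≠ A0 := by
    have := Finset.mem_compl.1 hRmem
    simp only [Finset.mem_insert, Finset.mem_singleton, not_or] at this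
    exact this
  have hz := hrest {one, A0, R} (by simp) (by
    rw [Finset.sum_insert (by simp [A0, (hAo 1 h1).symm, hRne.1.symm]), Finset.sum_pair hRne.2.symm,
      hm1, hdo, hmA1, hdAp, hRm1, hRd]
    omega)
  have hval1 : ∑ i : ZMod p, (if i = 0 then 0 else om (-i)) = -1 := by
    rw [← Finset.add_sum_erase _ _ (Finset.mem_univ (0 : ZMod p)), if_pos rfl, zero_add,
      Finset.sum_congr rfl (fun i hi => if_neg (Finset.mem_erase.1 hi).1)]
    have h := sum_om (p := p) (-1)
    rw [if_neg (by simp), ← Finset.add_sum_erase _ _ (Finset.mem_univ (0 : ZMod p))] at h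
    simp only [mul_zero, AddChar.map_zero_eq_one, neg_one_mul] at h
    linear_combination h
  have hAe : ∀ a : ZMod p, a ≠ 0 → (A0 : G → ℂ) (D.e a : G) = -1 := by
    intro a ha
    have h := value_eq D (hcl A0) a
    rw [if_neg ha, zero_sub, ← Finset.add_sum_erase _ _ (Finset.mem_univ (0 : ZMod p)), hc, hc0,
      Int.cast_zero, zero_mul, zero_add,
      Finset.sum_congr rfl (g := fun i => -(om (-(i * a)))) (fun i hi => by
        rw [hc, hAc i (Finset.mem_erase.1 hi).1]; push_cast; ring)] at h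
    have h' := sum_om (p := p) (-a)
    rw [if_neg (neg_ne_zero.2 ha), ← Finset.add_sum_erase _ _ (Finset.mem_univ (0 : ZMod p))] at h'
    simp only [mul_zero, AddChar.map_zero_eq_one] at h'
    have he : ∀ i : ZMod p, om (-(i * a)) = om (-a * i) := fun i => by congr 1; ring
    rw [Finset.sum_neg_distrib, neg_neg, Finset.sum_congr rfl fun i _ => he i] at h
    have h'' : conj ((A0 : G → ℂ) (D.e a : G)) = -1 := by rw [h]; linear_combination h'
    simpa using congrArg conj h''
  have hsum3 : ∀ i (hi : i ≠ 0) (f : IrrCharacter G → ℂ),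
      ∑ χ, (c i χ : ℂ) * f χ = f one - f A0 + f (B i hi) := by
    intro i hi f
    rw [← Finset.add_sum_erase _ _ (Finset.mem_univ one), hc1 i hi,
      ← Finset.sum_subset (s₁ := {A0, B i hi}) (by
          intro χ hχ
          rcases Finset.mem_insert.1 hχ with rfl | h
          · simp [A0, hAo]
          · rw [Finset.mem_singleton] at h; subst h; simp [hBo])
        (fun χ hχ h => by
          simp only [Finset.mem_insert, Finset.mem_singleton, not_or] at h
          rw [hcz i hi χ (Finset.mem_erase.1 hχ).1 (by rw [hA i hi]; exact h.1) h.2]; simp),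
      Finset.sum_pair (hAB0 i hi), hAc i hi, hcB]
    push_cast; ring
  have hBeven : ∀ i hi (x : G), Even (orderOf x) → (B i hi : G → ℂ) x = (A0 : G → ℂ) x - 1 := by
    intro i hi x hx
    have h := congrFun (hcsum i) x
    rw [theta_even D i hx, Finset.sum_apply] at h
    simp only [Pi.smul_apply, smul_eq_mul] at h
    rw [hsum3 i hi fun χ => (χ : G → ℂ) x] at h
    simp only [one, Pi.one_apply] at h
    linear_combination -h
  let F : Finset (IrrCharacter G) :=
    (Finset.univ : Finset {i : ZMod p // i ≠ 0}).image fun i => B i.1 i.2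
  have hFcard : p ≤ 2 * F.card + 1 := by
    have h := Finset.card_le_mul_card_image (f := fun i : {i : ZMod p // i ≠ 0} => B i.1 i.2)
      (Finset.univ : Finset {i : ZMod p // i ≠ 0}) 2 (by
        intro b hb
        obtain ⟨⟨k, hk⟩, -, rfl⟩ := Finset.mem_image.1 hb
        refine le_trans (Finset.card_le_card (t := {⟨k, hk⟩, ⟨-k, neg_ne_zero.2 hk⟩}) ?_) Finset.card_le_two
        rintro ⟨i, hi⟩ h
        simp only [Finset.mem_filter, Finset.mem_univ, true_and] at h
        rcases hBdist i hi k hk h with e | e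
        · simp [eq_neg_of_add_eq_zero_left e]
        · simp [e])
    rw [Finset.card_univ, Fintype.card_subtype_compl, Fintype.card_subtype_eq, ZMod.card] at h
    change p - 1 ≤ 2 * F.card at h
    omega
  refine ⟨A0, R, F, fun g => ?_, ?_, by rw [hdg, hRd], hAe, ?_, hFcard, ?_, ?_, fun x y hx hy => ?_⟩
  · rw [hpi _ hz g, Finset.sum_insert (by simp [A0, (hAo 1 h1).symm, hRne.1.symm]),
      Finset.sum_pair hRne.2.symm, hm1, hmA1, hRm1]
    simp only [one, Pi.one_apply]
    push_cast; ring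
  · rw [hdg, hdAp, Nat.cast_sub (by omega)]; simp
  · rw [hnorm _ hz, Finset.sum_insert (by simp [A0, (hAo 1 h1).symm, hRne.1.symm]),
      Finset.sum_pair hRne.2.symm, hm1, hmA1, hRm1]
    norm_num
  · intro χ hχ
    obtain ⟨⟨i, hi⟩, -, rfl⟩ := Finset.mem_image.1 hχ
    exact fun h => hBo i hi (Subtype.ext h)
  · intro χ hχ
    obtain ⟨⟨i, hi⟩, -, rfl⟩ := Finset.mem_image.1 hχ
    exact hBeven i hi
  · rw [class_mult_formula x y (D.e 1 : G)]
    congr 1
    set K : ℂ := 1 - (A0 : G → ℂ) x * (A0 : G → ℂ) y / ((p : ℂ) - 1) +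
      ((A0 : G → ℂ) x - 1) * ((A0 : G → ℂ) y - 1) / ((p : ℂ) - 2)
    have e : ∀ χ : IrrCharacter G,
        (χ : G → ℂ) x * (χ : G → ℂ) y * conj ((χ : G → ℂ) (D.e 1 : G)) / (χ : G → ℂ) 1 =
        -∑ i : ZMod p, om (-i) * ((c i χ : ℂ) * ((χ : G → ℂ) x * (χ : G → ℂ) y / (χ : G → ℂ) 1)) := by
      intro χ
      rw [value_eq D (hcl χ) 1, if_neg h1, zero_sub]
      simp only [hc, mul_one]
      rw [mul_neg, neg_div, Finset.mul_sum, Finset.sum_div]
      exact congrArg Neg.neg (Finset.sum_congr rfl fun i _ => by ring)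
    have e4 : ∀ i : ZMod p, ∑ χ : IrrCharacter G,
        om (-i) * ((c i χ : ℂ) * ((χ : G → ℂ) x * (χ : G → ℂ) y / (χ : G → ℂ) 1)) =
        (if i = 0 then 0 else om (-i)) * K := by
      intro i
      rw [← Finset.mul_sum]
      by_cases hi : i = 0
      · subst hi; simp [hc0]
      · rw [hsum3 i hi, if_neg hi, hBeven i hi x hx, hBeven i hi y hy, hdg A0, hdg (B i hi), hdAp, hdB,
          Nat.cast_sub (by omega), Nat.cast_sub (by omega)]
        simp only [one, Pi.one_apply, K]
        push_cast; ring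
    rw [Finset.sum_congr rfl fun χ _ => e χ, Finset.sum_neg_distrib, Finset.sum_comm,
      Finset.sum_congr rfl fun i _ => e4 i, ← Finset.sum_mul, hval1]
    ring

end Cfsg.Agent.DegTwoP
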