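/-
Small group and permutation lemmas for Ito's theorem on groups of degree `2p`.
-/
import Mathlib

set_option autoImplicit false

namespace Cfsg.Agent.DegTwoP

open Equiv

/-- A permutation whose powers act semiregularly on its support. -/
theorem sign_of_free {β : Type*} [Fintype β] [DecidableEq β] (σ : Perm β) {n : ℕ} (hn : 0 < n)
    (hσ : σ ^ n = 1) (hfree : ∀ x ∈ σ.support, ∀ l, (σ ^ l) x = x → n ∣ l) :
    n ∣ σ.support.card ∧ Perm.sign σ = (-1) ^ (σ.support.card + σ.support.card / n) := by
  have hall : ∀ l ∈ σ.cycleType, l = n := by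
    intro l hl
    have h1 : l ∣ n := (Perm.dvd_of_mem_cycleType hl).trans (orderOf_dvd_of_pow_eq_one hσ)
    obtain ⟨c, g, hcg, hd, hc, hlc⟩ := Perm.mem_cycleType_iff.1 hl
    obtain ⟨x, hx⟩ : c.support.Nonempty := Finset.card_pos.1 (by
      have := Perm.two_le_of_mem_cycleType hl; omega)
    have hxσ : x ∈ σ.support := by
      rw [hcg, hd.support_mul]; exact Finset.mem_union_left _ hx
    refine Nat.dvd_antisymm h1 (hfree x hxσ l ?_)
    rw [hcg, hd.commute.mul_pow, Perm.mul_apply]
    have hg : (g ^ l) x = x := by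
      refine Perm.pow_apply_eq_self_of_apply_eq_self ?_ l
      exact Perm.notMem_support.1 fun h => Finset.disjoint_left.1 hd.disjoint_support hx h
    rw [hg]
    have hcl : c ^ l = 1 := by rw [← hlc, ← hc.orderOf]; exact pow_orderOf_eq_one c
    rw [hcl]; rfl
  have hrep : σ.cycleType = Multiset.replicate (Multiset.card σ.cycleType) n :=
    Multiset.eq_replicate_card.2 hall
  have hsum := Perm.sum_cycleType σ
  rw [hrep, Multiset.sum_replicate, smul_eq_mul] at hsum
  refine ⟨⟨_, by rw [← hsum, mul_comm]⟩, ?_⟩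
  rw [Perm.sign_of_cycleType, hrep, Multiset.sum_replicate, Multiset.card_replicate, smul_eq_mul,
    ← hsum, Nat.mul_div_cancel _ hn]

/-- An abelian 2-group with at most one involution is cyclic. -/
theorem isCyclic_of_involution_unique {A : Type*} [Group A] [Finite A] (hA : IsPGroup 2 A)
    (hcomm : ∀ a b : A, a * b = b * a)
    (huniq : ∀ a b : A, orderOf a = 2 → orderOf b = 2 → a = b) : IsCyclic A := by
  classical
  have := Fintype.ofFinite A
  have key : ∀ k, (Finset.univ.filter fun a : A => a ^ 2 ^ k = 1).card ≤ 2 ^ k := by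
    intro k
    induction k with
    | zero => exact Finset.card_le_one.2 (by simp)
    | succ k ih =>
      refine le_trans (Finset.card_le_mul_card_image (f := fun a : A => a ^ 2) _ 2 ?_) ?_
      · intro b hb
        obtain ⟨a, -, rfl⟩ := Finset.mem_image.1 hb
        by_contra hlt
        push Not at hlt
        obtain ⟨x, y, z, hx, hy, hz, hxy, hxz, hyz⟩ := Finset.two_lt_card_iff.1 hlt
        simp only [Finset.mem_filter] at hx hy hz
        have sq : ∀ u w : A, u ^ 2 = a ^ 2 → w ^ 2 = a ^ 2 → u ≠ w → orderOf (u⁻¹ * w) = 2 := by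
          intro u w hu hw hne
          refine orderOf_eq_prime ?_ (fun h => hne (inv_mul_eq_one.1 h))
          rw [(show Commute u⁻¹ w from hcomm _ _).mul_pow, inv_pow, hu, hw, inv_mul_cancel]
        have e := huniq _ _ (sq x y hx.2 hy.2 hxy) (sq x z hx.2 hz.2 hxz)
        exact hyz (mul_left_cancel e)
      · rw [pow_succ' 2 k]
        refine Nat.mul_le_mul_left 2 (le_trans (Finset.card_le_card ?_) ih)
        intro b hb
        obtain ⟨a, ha, rfl⟩ := Finset.mem_image.1 hb
        simp only [Finset.mem_filter, Finset.mem_univ, true_and] at ha ⊢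
        rw [← pow_mul]; exact ha
  obtain ⟨m, hm⟩ := hA.exists_card_eq
  refine isCyclic_of_card_pow_eq_one_le (α := A) fun n hn => ?_
  obtain ⟨j, -, hj⟩ := (Nat.dvd_prime_pow Nat.prime_two).1 (Nat.gcd_dvd_right n (2 ^ m))
  refine le_trans (le_trans (Finset.card_le_card fun a ha => ?_) (key j))
    (hj ▸ Nat.gcd_le_left (2 ^ m) hn)
  simp only [Finset.mem_filter, Finset.mem_univ, true_and] at ha ⊢
  rw [← orderOf_dvd_iff_pow_eq_one, ← hj]
  exact Nat.dvd_gcd (orderOf_dvd_of_pow_eq_one ha) (hm ▸ orderOf_dvd_natCard a)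

/-- A cyclic Sylow 2-subgroup: the elements of odd order form a subgroup. -/
theorem exists_odd_subgroup {H : Type*} [Group H] [Finite H] (P : Sylow 2 H)
    (hP : IsCyclic (P : Subgroup H)) :
    ∃ K : Subgroup H, (∀ x, x ∈ K ↔ Odd (orderOf x)) ∧
      Nat.card K * Nat.card (P : Subgroup H) = Nat.card H := by
  by_cases h2 : 2 ∣ Nat.card H
  · have hmin : (Nat.card H).minFac = 2 := (Nat.minFac_eq_two_iff _).2 h2
    have hc := IsCyclic.isComplement' hmin hP
    set N := (MonoidHom.transferSylow P (hP.normalizer_le_centralizer hmin)).ker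
    have hcard := hc.card_mul_card
    refine ⟨N, fun x => ⟨fun hx => ?_, fun hx => ?_⟩, hcard⟩
    · have h1 : Nat.card N = (P : Subgroup H).index := by
        have h := (P : Subgroup H).card_mul_index
        rw [← hcard, mul_comm (Nat.card N)] at h
        exact (Nat.eq_of_mul_eq_mul_left Nat.card_pos h).symm
      rw [← Nat.not_even_iff_odd, even_iff_two_dvd]
      intro h
      refine P.not_dvd_index (h1 ▸ h.trans ?_)
      rw [show orderOf x = orderOf (⟨x, hx⟩ : N) from (Subgroup.orderOf_mk _ _).symm]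
      exact orderOf_dvd_natCard _
    · rw [MonoidHom.mem_ker, ← orderOf_eq_one_iff]
      refine Nat.eq_one_of_dvd_coprimes ?_ (orderOf_map_dvd _ x) (orderOf_dvd_natCard _)
      obtain ⟨m, hm⟩ := P.2.exists_card_eq
      rw [hm]
      exact (Nat.Coprime.pow_left m (Nat.coprime_two_left.2 hx)).symm
  · refine ⟨⊤, fun x => ⟨fun _ => ?_, fun _ => Subgroup.mem_top x⟩, ?_⟩
    · rw [← Nat.not_even_iff_odd, even_iff_two_dvd]
      exact fun h => h2 (h.trans (orderOf_dvd_natCard x))
    · obtain ⟨m, hm⟩ := P.2.exists_card_eq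
      rcases Nat.eq_zero_or_pos m with rfl | h
      · rw [hm, Subgroup.card_top]; simp
      · exact absurd ((dvd_pow_self 2 h.ne').trans (hm ▸ Subgroup.card_subgroup_dvd_card _)) h2

end Cfsg.Agent.DegTwoP
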