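/-
A primitive group of degree `2p` whose Sylow `p`-normalizer has order `2p`.

Main results: `isSimpleGroup`, `exists_data`, `card_fixedBy_t`.
-/
import Cfsg.Agent.Lib.DegTwoP.Chars
import Cfsg.Agent.Lib.DegTwoP.Perm

set_option autoImplicit false

namespace Cfsg.Agent.DegTwoP

open MulAction Subgroup

variable {p : ℕ} [Fact p.Prime] {G : Type*} [Group G] {Ω : Type*} [Fintype Ω] [MulAction G Ω]

section
variable [Finite G] (hΩ : Fintype.card Ω = 2 * p) (P : Sylow p G)
  (hN : Nat.card (normalizer ((P : Subgroup G) : Set G)) = 2 * p)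

include hΩ in
theorem two_p_dvd_card [IsPretransitive G Ω] : 2 * p ∣ Nat.card G := by
  have : Nonempty Ω := Fintype.card_pos_iff.1 (by have := (Fact.out : p.Prime).pos; omega)
  obtain ⟨a⟩ := this
  rw [← hΩ, ← Nat.card_eq_fintype_card, ← index_stabilizer_of_transitive G a]
  exact index_dvd_card _

include hΩ hN in
theorem card_sylow [IsPretransitive G Ω] (hp : 3 ≤ p) : Nat.card (P : Subgroup G) = p := by
  obtain ⟨k, hk⟩ := P.2.exists_card_eq
  have h1 : p ^ k ∣ 2 * p := hk ▸ hN ▸ card_dvd_of_le le_normalizer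
  have h0 : k ≠ 0 := by
    rintro rfl
    have h := (P : Subgroup G).card_mul_index
    rw [hk, pow_zero, one_mul] at h
    exact P.not_dvd_index (h ▸ (dvd_mul_left p 2).trans (two_p_dvd_card hΩ))
  have h2 : k ≤ 1 := by
    by_contra h
    have : p * p ∣ 2 * p := by
      rw [← pow_two]
      exact (pow_dvd_pow p (by omega)).trans h1
    have := Nat.le_of_dvd two_pos (Nat.dvd_of_mul_dvd_mul_right (by omega) this)
    omega
  rw [hk, show k = 1 by omega, pow_one]

theorem not_sq_dvd (hP : Nat.card (P : Subgroup G) = p) : ¬ p * p ∣ Nat.card G := by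
  rw [← (P : Subgroup G).card_mul_index, hP]
  exact fun h => P.not_dvd_index (Nat.dvd_of_mul_dvd_mul_left (Fact.out : p.Prime).pos h)

include hΩ in
theorem free [IsPretransitive G Ω] (hP : Nat.card (P : Subgroup G) = p) {x : G}
    (hx : x ∈ (P : Subgroup G)) (hx1 : x ≠ 1) (ω : Ω) : x • ω ≠ ω := by
  intro h
  have h1 : orderOf x = p := by
    have h2 : orderOf x ∣ p := ((P : Subgroup G).orderOf_dvd_natCard hx).trans hP.dvd
    exact ((Nat.dvd_prime Fact.out).1 h2).resolve_left fun e => hx1 (orderOf_eq_one_iff.1 e)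
  have h3 : p ∣ Nat.card (stabilizer G ω) := by
    rw [← h1, show orderOf x = orderOf (⟨x, h⟩ : stabilizer G ω) from (Subgroup.orderOf_mk _ _).symm]
    exact orderOf_dvd_natCard _
  refine not_sq_dvd P hP ?_
  rw [← (stabilizer G ω).index_mul_card, index_stabilizer_of_transitive G ω, Nat.card_eq_fintype_card, hΩ]
  exact Nat.mul_dvd_mul (dvd_mul_left p 2) h3

include hΩ in
theorem normal_transitive [IsPreprimitive G Ω] [FaithfulSMul G Ω] {M : Subgroup G} (hM : M.Normal)
    (hne : M ≠ ⊥) : 2 * p ∣ Nat.card M := by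
  have : IsPretransitive M Ω := by
    refine IsQuasiPreprimitive.isPretransitive_of_normal fun h => hne ((eq_bot_iff_forall M).2 fun m hm => ?_)
    refine FaithfulSMul.eq_of_smul_eq_smul (α := Ω) fun ω => ?_
    rw [one_smul]
    exact (h.ge (Set.mem_univ ω) : ω ∈ fixedPoints M Ω) ⟨m, hm⟩
  exact two_p_dvd_card hΩ

include hΩ in
/-- No normal subgroup containing `P` has `P` central in its normalizer. -/
theorem not_central [IsPreprimitive G Ω] [FaithfulSMul G Ω] (hP : Nat.card (P : Subgroup G) = p)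
    {M : Subgroup G} (hM : M.Normal) (hPM : (P : Subgroup G) ≤ M)
    (hc : ∀ g ∈ M, g ∈ normalizer ((P : Subgroup G) : Set G) → ∀ x ∈ (P : Subgroup G), g * x = x * g) :
    False := by
  have := Fact.mk (Fact.out : p.Prime)
  let P' : Sylow p M := P.subtype hPM
  have hc' : normalizer ((P' : Subgroup M) : Set M) ≤ centralizer ((P' : Subgroup M) : Set M) := by
    intro g hg x hx
    have hg' : (g : G) ∈ normalizer ((P : Subgroup G) : Set G) := by
      refine Subgroup.mem_normalizer_iff.2 fun y => ⟨fun hy => ?_, fun hy => ?_⟩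
      · exact (Subgroup.mem_normalizer_iff.1 hg ⟨y, hPM hy⟩).1 hy
      · have hyM : y ∈ M := by
          have h := hM.conj_mem _ (hPM hy) (g : G)⁻¹
          simpa [mul_assoc] using h
        exact (Subgroup.mem_normalizer_iff.1 hg ⟨y, hyM⟩).2 hy
    exact Subtype.ext (hc g g.2 hg' x hx).symm
  have hcomp := MonoidHom.ker_transferSylow_isComplement' P' hc'
  have hndvd := MonoidHom.not_dvd_card_ker_transferSylow P' hc'
  set K := (MonoidHom.transferSylow P' hc').ker
  have hcP' : Nat.card (P' : Subgroup M) = p := by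
    refine Eq.trans ?_ hP
    exact Nat.card_congr (subgroupOfEquivOfLe hPM).toEquiv
  have hmem : ∀ x : M, x ∈ K ↔ ¬ p ∣ orderOf x := by
    intro x
    refine ⟨fun hx h => hndvd (h.trans ?_), fun hx => ?_⟩
    · rw [show orderOf x = orderOf (⟨x, hx⟩ : K) from (Subgroup.orderOf_mk _ _).symm]
      exact orderOf_dvd_natCard _
    · rw [MonoidHom.mem_ker, ← orderOf_eq_one_iff]
      refine Nat.eq_one_of_dvd_coprimes ?_ (orderOf_map_dvd _ x) (orderOf_dvd_natCard _)
      rw [hcP', Nat.coprime_comm]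
      exact (Fact.out : p.Prime).coprime_iff_not_dvd.2 hx
  have hKn : (K.map M.subtype).Normal := by
    refine ⟨?_⟩
    rintro _ ⟨x, hx, rfl⟩ g
    refine ⟨⟨g * x * g⁻¹, hM.conj_mem _ x.2 g⟩, (hmem _).2 ?_, rfl⟩
    rw [← Subgroup.orderOf_coe]
    show ¬ p ∣ orderOf (g * (x : G) * g⁻¹)
    rw [← MulAut.conj_apply, MulEquiv.orderOf_eq, Subgroup.orderOf_coe]
    exact (hmem x).1 hx
  have hcard := hcomp.card_mul_card
  by_cases hK : K.map M.subtype = ⊥
  · rw [map_eq_bot_iff_of_injective K M.subtype_injective] at hK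
    rw [hK, card_bot, hcP', one_mul] at hcard
    have hne : M ≠ ⊥ := fun h => by
      rw [h, card_bot] at hcard
      exact (Fact.out : p.Prime).ne_one hcard
    have h := normal_transitive hΩ hM hne
    rw [← hcard] at h
    have := Nat.le_of_dvd (Fact.out : p.Prime).pos h
    have := (Fact.out : p.Prime).pos
    omega
  · have h := normal_transitive hΩ hKn hK
    rw [Subgroup.card_map_of_injective M.subtype_injective] at h
    exact hndvd ((dvd_mul_left p 2).trans h)

include hΩ hN in
theorem exists_data [IsPreprimitive G Ω] [FaithfulSMul G Ω] (hp : 5 ≤ p) :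
    IsSimpleGroup G ∧ (∃ a b : G, a * b ≠ b * a) ∧ ∃ D : Data p G, D.X = (P : Subgroup G) := by
  have hP := card_sylow hΩ P hN (by omega)
  set N := normalizer ((P : Subgroup G) : Set G)
  have hPN : (P : Subgroup G) ≤ N := le_normalizer
  have hidx : ((P : Subgroup G).subgroupOf N).index = 2 := by
    have h := ((P : Subgroup G).subgroupOf N).card_mul_index
    rw [Nat.card_congr (subgroupOfEquivOfLe hPN).toEquiv, hP, hN, mul_comm 2 p] at h
    exact Nat.eq_of_mul_eq_mul_left (by omega) h
  obtain ⟨⟨t, htN⟩, ht⟩ := exists_prime_orderOf_dvd_card' (G := N) 2 (hN ▸ dvd_mul_right 2 p)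
  rw [Subgroup.orderOf_mk] at ht
  have ht2 : t * t = 1 := by rw [← pow_two, ← ht, pow_orderOf_eq_one]
  have htP : t ∉ (P : Subgroup G) := by
    intro h
    have h2 : orderOf t ∣ p := ((P : Subgroup G).orderOf_dvd_natCard h).trans hP.dvd
    rw [ht] at h2
    rcases (Nat.dvd_prime (Fact.out : p.Prime)).1 h2 with e | e <;> omega
  have hmemN : ∀ g ∈ N, g ∈ (P : Subgroup G) ∨ t * g ∈ (P : Subgroup G) := by
    intro g hg
    by_cases h : g ∈ (P : Subgroup G)
    · exact Or.inl h
    · refine Or.inr ?_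
      have h' := (mul_mem_iff_of_index_two hidx (a := ⟨t, htN⟩) (b := ⟨g, hg⟩)).2
        (iff_of_false htP h)
      exact h'
  have hPc : IsMulCommutative (P : Subgroup G) := by
    have := isCyclic_of_prime_card hP
    infer_instance
  have hnc : ∃ x ∈ (P : Subgroup G), t * x ≠ x * t := by
    by_contra hcon
    push Not at hcon
    refine not_central hΩ P hP (M := ⊤) inferInstance le_top fun g _ hg x hx => ?_
    rcases hmemN g hg with h | h
    · exact congrArg Subtype.val (hPc.is_comm.comm (⟨g, h⟩ : (P : Subgroup G)) ⟨x, hx⟩)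
    · have e := congrArg Subtype.val (hPc.is_comm.comm (⟨t * g, h⟩ : (P : Subgroup G)) ⟨x, hx⟩)
      simp only [Subgroup.coe_mul] at e
      calc g * x = t * (t * g * x) := by rw [← mul_assoc, ← mul_assoc, ht2, one_mul]
        _ = t * x * (t * g) := by rw [e, mul_assoc]
        _ = x * g := by rw [hcon x hx, mul_assoc, ← mul_assoc t t g, ht2, one_mul]
  -- parametrization
  let e0 : Multiplicative (ZMod p) ≃* (P : Subgroup G) :=
    mulEquivOfPrimeCardEq (p := p) (by simp) hP
  let e : ZMod p ≃ (P : Subgroup G) := Multiplicative.ofAdd.trans e0.toEquiv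
  have eadd : ∀ a b, e (a + b) = e a * e b := fun a b => by
    show e0 (Multiplicative.ofAdd (a + b)) = _
    rw [ofAdd_add, map_mul]; rfl
  have htc : ∀ x ∈ (P : Subgroup G), t * x * t ∈ (P : Subgroup G) := fun x hx => by
    have h := (Subgroup.mem_normalizer_iff.1 htN x).1 hx
    rwa [inv_eq_of_mul_eq_one_left ht2] at h
  let f : ZMod p →+ ZMod p := AddMonoidHom.mk' (fun a => e.symm ⟨t * e a * t, htc _ (e a).2⟩) fun a b => by
    refine (Equiv.symm_apply_eq e).2 ?_
    conv_rhs => rw [eadd]
    apply Subtype.ext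
    rw [Subgroup.coe_mul, Equiv.apply_symm_apply, Equiv.apply_symm_apply]
    show t * (e (a + b) : G) * t = t * e a * t * (t * e b * t)
    rw [show (e (a + b) : G) = e a * e b from by rw [eadd]; rfl]
    simp only [mul_assoc]
    rw [← mul_assoc t t, ht2, one_mul]
  have hf : ∀ a, (e (f a) : G) = t * e a * t := fun a => by simp [f]
  have hlin : ∀ a, f a = a * f 1 := fun a => by
    conv_lhs => rw [← ZMod.natCast_zmod_val a, ← nsmul_one, map_nsmul, nsmul_eq_mul, ZMod.natCast_zmod_val]
  have hff : f (f 1) = 1 := by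
    apply e.injective
    apply Subtype.ext
    rw [hf, hf]
    simp only [mul_assoc]
    rw [ht2, mul_one, ← mul_assoc, ht2, one_mul]
  have hj : f 1 = -1 := by
    rw [hlin] at hff
    rcases mul_self_eq_one_iff.1 hff with h | h
    · exfalso
      obtain ⟨x, hx, hne⟩ := hnc
      obtain ⟨a, ha⟩ : ∃ a, (e a : G) = x := ⟨e.symm ⟨x, hx⟩, by simp⟩
      have h' := hf a
      rw [hlin, h, mul_one, ha] at h'
      refine hne ?_
      conv_lhs => rw [h', ← mul_assoc, ← mul_assoc, ht2, one_mul]
    · exact h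
  have tinv : ∀ a, t * (e a : G) * t = e (-a) := fun a => by
    rw [← hf, hlin, hj, mul_neg, mul_one]
  have hnorm : ∀ g : G, ∀ a : ZMod p, a ≠ 0 → g⁻¹ * (e a : G) * g ∈ (P : Subgroup G) →
      g ∈ (P : Subgroup G) ∨ t * g ∈ (P : Subgroup G) := by
    intro g a ha hg
    refine hmemN g ?_
    have hgi : g⁻¹ ∈ N := by
      refine Subgroup.mem_normalizer_fintype fun x hx => ?_
      obtain ⟨b, hb⟩ : ∃ b, (e b : G) = x := ⟨e.symm ⟨x, hx⟩, by simp⟩
      have hb' : b = (b * a⁻¹).val • a := by
        rw [nsmul_eq_mul, ZMod.natCast_zmod_val, inv_mul_cancel_right₀ ha]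
      have hpow : ∀ n : ℕ, (e (n • a) : G) = (e a : G) ^ n := by
        intro n
        induction n with
        | zero =>
          rw [zero_smul, pow_zero]
          have h := eadd 0 0
          rw [add_zero, left_eq_mul] at h
          rw [h]; rfl
        | succ n ih => rw [succ_nsmul, eadd, Subgroup.coe_mul, ih, pow_succ]
      rw [← hb, hb', hpow, ← conj_pow, inv_inv]
      exact pow_mem hg _
    simpa using inv_mem hgi
  refine ⟨?_, ⟨t, hnc.choose, hnc.choose_spec.2⟩,
    ⟨{ X := (P : Subgroup G), e := e, e_add := eadd, t := t, t_sq := ht2, t_not := htP, t_inv := tinv,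
       five := hp, norm := hnorm }, rfl⟩⟩
  have : Nontrivial G := ⟨⟨t, 1, fun h => htP (h ▸ one_mem _)⟩⟩
  refine ⟨fun M hM => ?_⟩
  by_cases hne : M = ⊥
  · exact Or.inl hne
  refine Or.inr ?_
  have hdvd : p ∣ Nat.card M := (dvd_mul_left p 2).trans (normal_transitive hΩ hM hne)
  have hPM : (P : Subgroup G) ≤ M := by
    intro x hx
    rw [← QuotientGroup.eq_one_iff (N := M), ← orderOf_eq_one_iff]
    refine Nat.eq_one_of_dvd_coprimes (a := p) (b := M.index) ?_ ?_ ?_
    · refine (Fact.out : p.Prime).coprime_iff_not_dvd.2 fun h => not_sq_dvd P hP ?_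
      rw [← M.card_mul_index]; exact Nat.mul_dvd_mul hdvd h
    · refine (orderOf_map_dvd (QuotientGroup.mk' M) x).trans ?_
      rw [← hP, show orderOf x = orderOf (⟨x, hx⟩ : (P : Subgroup G)) from (Subgroup.orderOf_mk _ _).symm]
      exact orderOf_dvd_natCard _
    · rw [Subgroup.index_eq_card]; exact orderOf_dvd_natCard _
  have htM : t ∈ M := by
    by_contra h
    refine not_central hΩ P hP hM hPM fun g hgM hg x hx => ?_
    rcases hmemN g hg with h' | h'
    · exact congrArg Subtype.val (hPc.is_comm.comm (⟨g, h'⟩ : (P : Subgroup G)) ⟨x, hx⟩)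
    · exact absurd (by simpa using mul_mem (hPM h') (inv_mem hgM)) h
  have hfr := Sylow.normalizer_sup_eq_top' P hPM
  refine top_le_iff.1 (hfr.ge.trans (sup_le (fun g hg => ?_) le_rfl))
  rcases hmemN g hg with h | h
  · exact hPM h
  · simpa [← mul_assoc, ht2] using mul_mem htM (hPM h)

end

variable [Fintype G] (D : Data p G) [FaithfulSMul G Ω]

omit [Fintype G] in
/-- In a simple non-abelian group every permutation is even. -/
theorem sign_eq_one [DecidableEq Ω] [IsSimpleGroup G] (hnc : ∃ a b : G, a * b ≠ b * a) (g : G) :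
    Equiv.Perm.sign (toPermHom G Ω g) = 1 := by
  let s : G →* ℤˣ := Equiv.Perm.sign.comp (toPermHom G Ω)
  rcases s.normal_ker.eq_bot_or_eq_top with h | h
  · exfalso
    obtain ⟨a, b, hab⟩ := hnc
    exact hab ((MonoidHom.ker_eq_bot_iff s).1 h (by rw [map_mul, map_mul, mul_comm]))
  · exact MonoidHom.mem_ker.1 (h ▸ Subgroup.mem_top g : g ∈ s.ker)

/-- `t` has exactly two fixed points. -/
theorem card_fixedBy_t [DecidableEq Ω] (hΩ : Fintype.card Ω = 2 * p)
    (hfree : ∀ a : ZMod p, a ≠ 0 → ∀ ω : Ω, (D.e a : G) • ω ≠ ω)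
    (hsign : Equiv.Perm.sign (toPermHom G Ω D.t) = 1) :
    Nat.card (fixedBy Ω D.t) = 2 := by
  have hp5 := D.five
  obtain ⟨ω0⟩ : Nonempty Ω := Fintype.card_pos_iff.1 (by omega)
  have hinj : ∀ ω : Ω, Function.Injective fun a : ZMod p => (D.e a : G) • ω := by
    intro ω a b h
    by_contra hne
    refine hfree (-b + a) (fun e => hne (neg_add_eq_zero.1 e).symm) ω ?_
    rw [← e_mul D, mul_smul, show (D.e a : G) • ω = (D.e b : G) • ω from h, ← mul_smul, e_mul D,
      neg_add_cancel, e_zero D, one_smul]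
  obtain ⟨ω1, hω1⟩ : ∃ ω1, ∀ a, (D.e a : G) • ω0 ≠ ω1 := by
    by_contra hcon
    push Not at hcon
    have := Fintype.card_le_of_surjective (fun a : ZMod p => (D.e a : G) • ω0) hcon
    rw [ZMod.card, hΩ] at this
    omega
  let f : ZMod p × Bool → Ω := fun q => (D.e q.1 : G) • (if q.2 then ω1 else ω0)
  have hfi : Function.Injective f := by
    have key : ∀ a b, (D.e a : G) • ω0 ≠ (D.e b : G) • ω1 := fun a b h => hω1 (-b + a) (by
      rw [← e_mul D, mul_smul, h, ← mul_smul, e_mul D, neg_add_cancel, e_zero D, one_smul])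
    rintro ⟨a, s⟩ ⟨b, r⟩ h
    cases s <;> cases r <;> simp only [f, Bool.false_eq_true, if_false, if_true] at h
    · rw [hinj _ h]
    · exact absurd h (key a b)
    · exact absurd h.symm (key b a)
    · rw [hinj _ h]
  have hf : Function.Bijective f :=
    (Fintype.bijective_iff_injective_and_card f).2 ⟨hfi, by simp [hΩ, mul_comm]⟩
  obtain ⟨⟨c0, s0⟩, h0⟩ := hf.2 (D.t • ω0)
  obtain ⟨⟨c1, s1⟩, h1⟩ := hf.2 (D.t • ω1)
  have hti : D.t⁻¹ = D.t := inv_eq_of_mul_eq_one_left D.t_sq
  have hact : ∀ a, D.t * (D.e a : G) = (D.e (-a) : G) * D.t := fun a => by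
    rw [← D.t_inv, mul_assoc, D.t_sq, mul_one]
  have ht : ∀ a s, D.t • f (a, s) = f (-a + (if s then c1 else c0), if s then s1 else s0) := by
    intro a s
    simp only [f]
    rw [← mul_smul, hact, mul_smul, ← e_mul D, mul_smul]
    cases s
    · simp only [Bool.false_eq_true, if_false]; rw [← h0]
    · simp only [if_true]; rw [← h1]
  have hfix : ∀ a s, f (a, s) ∈ fixedBy Ω D.t ↔
      (if s then s1 else s0) = s ∧ 2 * a = (if s then c1 else c0) := by
    intro a s
    rw [mem_fixedBy, ht]
    rw [hfi.eq_iff, Prod.mk.injEq]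
    constructor
    · rintro ⟨h1, h2⟩; exact ⟨h2, by linear_combination -h1⟩
    · rintro ⟨h1, h2⟩; exact ⟨by linear_combination -h2, h1⟩
  have h2 : (2 : ZMod p) ≠ 0 := by
    have := natCast_ne_zero' (p := p) (k := 2) (by norm_num) (by omega)
    exact_mod_cast this
  by_cases hs : s0 = false ∧ s1 = true
  · rw [← Nat.card_eq_two_iff.2 ⟨false, true, by decide, by ext b; cases b <;> simp⟩]
    symm
    refine Nat.card_eq_of_bijective (fun s : Bool =>
      (⟨f ((if s then c1 else c0) / 2, s), (hfix _ _).2 ⟨by cases s <;> simp [hs.1, hs.2], by field_simp⟩⟩ :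
        fixedBy Ω D.t)) ⟨fun r s h => ?_, fun ω => ?_⟩
    · exact (Prod.mk.inj (hfi (congrArg Subtype.val h))).2
    · obtain ⟨⟨a, s⟩, hω⟩ := hf.2 ω.1
      have h := (hfix a s).1 (hω ▸ ω.2)
      refine ⟨s, Subtype.ext ?_⟩
      rw [← hω]
      show f (_, s) = f (a, s)
      rw [← h.2]
      congr 2
      field_simp
  · exfalso
    have hfpf : ∀ ω : Ω, D.t • ω ≠ ω := by
      intro ω hω
      obtain ⟨⟨a, s⟩, rfl⟩ := hf.2 ω
      -- both orbits are stable
      have h := ((hfix a s).1 hω).1
      apply hs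
      have i0 : D.t • f (0, false) = f (c0, s0) := by rw [ht]; simp
      have i1 : D.t • f (0, true) = f (c1, s1) := by rw [ht]; simp
      have tt : ∀ z : Ω, D.t • D.t • z = z := fun z => by rw [← mul_smul, D.t_sq, one_smul]
      cases s <;> simp only [Bool.false_eq_true, if_false, if_true] at h
      · refine ⟨h, ?_⟩
        by_contra h'
        rw [Bool.not_eq_true] at h'
        have := tt (f (0, true))
        rw [i1, ht, h', h] at this
        simpa using (Prod.mk.inj (hfi this)).2
      · refine ⟨?_, h⟩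
        by_contra h'
        rw [Bool.not_eq_false] at h'
        have := tt (f (0, false))
        rw [i0, ht, h', h] at this
        simpa using (Prod.mk.inj (hfi this)).2
    have hsup : (toPermHom G Ω D.t).support = Finset.univ := by
      ext ω
      simp only [Equiv.Perm.mem_support, Finset.mem_univ, iff_true]
      exact hfpf ω
    have h := (sign_of_free (toPermHom G Ω D.t) (n := 2) two_pos
      (by rw [← map_pow, pow_two, D.t_sq, map_one]) (by
        intro x _ l hl
        by_contra hne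
        obtain ⟨k, rfl⟩ := Nat.not_even_iff_odd.1 (fun e => hne e.two_dvd)
        rw [← map_pow, pow_succ, pow_mul, pow_two, D.t_sq, one_pow, one_mul] at hl
        exact hfpf x hl)).2
    rw [hsign, hsup, Finset.card_univ, hΩ, Nat.mul_div_cancel_left p two_pos] at h
    obtain ⟨k, hk⟩ := (Fact.out : p.Prime).odd_of_ne_two (by omega)
    rw [show 2 * p + p = 2 * (3 * k + 1) + 1 by omega, pow_succ, pow_mul] at h
    simp at h

end Cfsg.Agent.DegTwoP
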