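/-
Orthogonality of the character sums over a coset `tK` of the odd part `K` of the centralizer of an
involution `t`.
-/
import Cfsg.Agent.Lib.Char.Induced

set_option autoImplicit false

namespace Cfsg.Agent.DegTwoP

open Cfsg Cfsg.Agent.Char
open scoped ComplexConjugate

variable {G : Type*} [Group G] [Fintype G] {t : G} {K : Subgroup G}

theorem t_mul_conj {g y : G} (hg : g ∈ Subgroup.centralizer ({t} : Set G)) :
    g * (t * y) * g⁻¹ = t * (g * y * g⁻¹) := by
  have h := Subgroup.mem_centralizer_singleton_iff.1 hg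
  rw [← mul_assoc g, h]; group

theorem sum_mul_conj_sum [Fintype (IrrCharacter G)] [Fintype K] (ht : t * t = 1)
    (hKC : K ≤ Subgroup.centralizer ({t} : Set G))
    (hK : ∀ x ∈ Subgroup.centralizer ({t} : Set G), Odd (orderOf x) ↔ x ∈ K) :
    ∑ χ : IrrCharacter G, (∑ y : K, (χ : G → ℂ) (t * y)) * conj (∑ y : K, (χ : G → ℂ) (t * y)) =
      ((Nat.card K * Nat.card (Subgroup.centralizer ({t} : Set G)) : ℕ) : ℂ) := by
  classical
  have step : ∀ y y' : K, ∑ χ : IrrCharacter G, (χ : G → ℂ) (t * y) * conj ((χ : G → ℂ) (t * y')) =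
      ((Finset.univ.filter fun g : G => g * (t * y) * g⁻¹ = t * y').card : ℂ) := by
    intro y y'
    rw [column_orth (t * (y : G)) (t * y')]
    split_ifs with h
    · obtain ⟨c, hc⟩ := isConj_iff.1 h
      rw [← Fintype.card_coe, ← Nat.card_eq_fintype_card]
      congr 1
      refine Nat.card_congr
        { toFun := fun z => ⟨c * z.1, Finset.mem_filter.2 ⟨Finset.mem_univ _, ?_⟩⟩
          invFun := fun g => ⟨c⁻¹ * g.1, ?_⟩
          left_inv := fun z => by simp
          right_inv := fun g => by simp }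
      · have hz := Subgroup.mem_centralizer_singleton_iff.1 z.2
        calc c * z.1 * (t * y) * (c * z.1)⁻¹ = c * (z.1 * (t * y)) * z.1⁻¹ * c⁻¹ := by group
          _ = c * (t * y) * c⁻¹ := by rw [hz]; group
          _ = _ := hc
      · have hg := (Finset.mem_filter.1 g.2).2
        rw [Subgroup.mem_centralizer_singleton_iff]
        calc c⁻¹ * g.1 * (t * y) = c⁻¹ * (g.1 * (t * y) * g.1⁻¹) * c * (c⁻¹ * g.1) := by group
          _ = c⁻¹ * (c * (t * y) * c⁻¹) * c * (c⁻¹ * g.1) := by rw [hg, hc]
          _ = _ := by group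
    · rw [Finset.filter_false_of_mem fun g _ hg => h (isConj_iff.2 ⟨g, hg⟩), Finset.card_empty, Nat.cast_zero]
  have hodd : Odd (Nat.card K) := by
    rw [← Nat.not_even_iff_odd, even_iff_two_dvd]
    intro h
    obtain ⟨k, hk⟩ := exists_prime_orderOf_dvd_card' 2 h
    have := (hK k (hKC k.2)).2 k.2
    rw [Subgroup.orderOf_coe, hk] at this
    exact absurd this (by decide)
  have fib : ∀ y : K, ∑ y' : K, (Finset.univ.filter fun g : G => g * (t * y) * g⁻¹ = t * y').card =
      Nat.card (Subgroup.centralizer ({t} : Set G)) := by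
    intro y
    rw [Nat.card_eq_fintype_card, Fintype.card_subtype, ← Finset.card_biUnion]
    · congr 1
      ext g
      simp only [Finset.mem_biUnion, Finset.mem_univ, true_and, Finset.mem_filter]
      constructor
      · rintro ⟨y', hy'⟩
        have pw : ∀ z : K, (t * (z : G)) ^ Nat.card K = t := by
          intro z
          have hz : Commute t (z : G) := (Subgroup.mem_centralizer_singleton_iff.1 (hKC z.2)).symm
          have h1 : (z : G) ^ Nat.card K = 1 := by rw [← Subgroup.coe_pow, pow_card_eq_one']; rfl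
          obtain ⟨k, hk⟩ := hodd
          rw [hz.mul_pow, h1, mul_one, hk, pow_succ, pow_mul, pow_two, ht, one_pow, one_mul]
        have h := congrArg (· ^ Nat.card K) hy'
        simp only [conj_pow, pw] at h
        rw [Subgroup.mem_centralizer_singleton_iff]
        exact mul_inv_eq_iff_eq_mul.1 h
      · intro hg
        have hmem : g * (y : G) * g⁻¹ ∈ Subgroup.centralizer ({t} : Set G) :=
          mul_mem (mul_mem hg (hKC y.2)) (inv_mem hg)
        have : g * (y : G) * g⁻¹ ∈ K := (hK _ hmem).1 (by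
          rw [← MulAut.conj_apply, MulEquiv.orderOf_eq]; exact (hK _ (hKC y.2)).2 y.2)
        exact ⟨⟨_, this⟩, t_mul_conj hg⟩
    · intro a _ b _ hab
      refine Finset.disjoint_left.2 fun g ha hb => hab (Subtype.ext (mul_left_cancel (a := t) ?_))
      exact ((Finset.mem_filter.1 ha).2).symm.trans (Finset.mem_filter.1 hb).2
  simp only [map_sum, Finset.sum_mul_sum]
  rw [Finset.sum_comm, Finset.sum_congr rfl fun y _ => Finset.sum_comm,
    Finset.sum_congr rfl fun y _ => Finset.sum_congr rfl fun y' _ => step y y']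
  simp_rw [← Nat.cast_sum, fib]
  simp [Nat.card_eq_fintype_card]

/-- The sum of a character over `tK` is a multiple of `|K|`. -/
theorem exists_sum_eq_mul [Fintype K] (ht : t * t = 1) (hKC : K ≤ Subgroup.centralizer ({t} : Set G))
    (htK : t ∉ K) {χ : G → ℂ} (hχ : IsCharacter G χ) :
    ∃ q : ℤ, ∑ y : K, χ (t * y) = (Nat.card K : ℂ) * q := by
  classical
  have hti : t⁻¹ = t := inv_eq_of_mul_eq_one_left ht
  have comm : ∀ {x : G}, x ∈ K → x * t = t * x := fun hx => Subgroup.mem_centralizer_singleton_iff.1 (hKC hx)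
  have comm2 : ∀ {x : G}, t * x ∈ K → x * t = t * x := by
    intro x hx
    have h := comm hx
    rw [mul_assoc] at h
    exact mul_left_cancel h
  let H : Subgroup G :=
    { carrier := {x | x ∈ K ∨ t * x ∈ K}
      one_mem' := Or.inl K.one_mem
      mul_mem' := by
        rintro a b (ha | ha) (hb | hb)
        · exact Or.inl (K.mul_mem ha hb)
        · refine Or.inr ?_
          rw [← mul_assoc, ← comm ha, mul_assoc]; exact K.mul_mem ha hb
        · refine Or.inr ?_
          rw [← mul_assoc]; exact K.mul_mem ha hb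
        · refine Or.inl ?_
          have h := K.mul_mem ha hb
          have e : t * a * (t * b) = a * b := by
            rw [← mul_assoc, mul_assoc t a t, comm2 ha, ← mul_assoc, ht, one_mul]
          rwa [e] at h
      inv_mem' := by
        rintro a (ha | ha)
        · exact Or.inl (K.inv_mem ha)
        · refine Or.inr ?_
          have h := K.inv_mem ha
          rw [← comm2 ha, mul_inv_rev, hti] at h
          exact h }
  let φ : K ⊕ K → H := Sum.elim (fun y => ⟨(y : G), Or.inl y.2⟩) (fun y => ⟨t * y, Or.inr (by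
    rw [← mul_assoc, ht, one_mul]; exact y.2)⟩)
  have hf : Function.Bijective φ := by
    constructor
    · rintro (a | a) (b | b) h <;> simp only [φ, Sum.elim_inl, Sum.elim_inr, Subtype.mk.injEq] at h
      · rw [Subtype.ext h]
      · exact absurd (by rw [show t = (a : G) * (b : G)⁻¹ from by rw [h]; group]; exact K.mul_mem a.2 (K.inv_mem b.2)) htK
      · exact absurd (by rw [show t = (b : G) * (a : G)⁻¹ from by rw [← h]; group]; exact K.mul_mem b.2 (K.inv_mem a.2)) htK
      · rw [Subtype.ext (mul_left_cancel h)]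
    · rintro ⟨x, hx | hx⟩
      · exact ⟨Sum.inl ⟨x, hx⟩, rfl⟩
      · refine ⟨Sum.inr ⟨t * x, hx⟩, Subtype.ext ?_⟩
        show t * (t * x) = x
        rw [← mul_assoc, ht, one_mul]
  have hcardH : Nat.card H = 2 * Nat.card K := by
    rw [← Nat.card_congr (Equiv.ofBijective _ hf), Nat.card_sum, two_mul]
  obtain ⟨n1, hn1⟩ := IsCharacter.classInner_nat (IsCharacter.restrict hχ K) (isCharacter_one (G := K))
  obtain ⟨n2, hn2⟩ := IsCharacter.classInner_nat (IsCharacter.restrict hχ H) (isCharacter_one (G := H))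
  have k0 : (Nat.card K : ℂ) ≠ 0 := Nat.cast_ne_zero.2 Nat.card_pos.ne'
  have e1 : ∑ y : K, χ y = Nat.card K * (n1 : ℂ) := by
    rw [← hn1, classInner, ← mul_assoc, mul_inv_cancel₀ k0, one_mul]
    simp
  have e2 : ∑ y : H, χ y = (2 * Nat.card K : ℕ) * (n2 : ℂ) := by
    rw [← hn2, classInner, hcardH, ← mul_assoc, mul_inv_cancel₀ (Nat.cast_ne_zero.2 (by have := Nat.card_pos (α := K); omega)), one_mul]
    simp
  rw [← Fintype.sum_equiv (Equiv.ofBijective _ hf) _ _ (fun s => rfl), Fintype.sum_sum_type] at e2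
  simp only [φ, Equiv.ofBijective_apply, Sum.elim_inl, Sum.elim_inr] at e2
  rw [e1] at e2
  refine ⟨2 * (n2 : ℤ) - n1, ?_⟩
  push_cast at e2 ⊢
  linear_combination e2

end Cfsg.Agent.DegTwoP
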