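/-
A primitive, not doubly transitive group of degree `2p` with Sylow normalizer of order `2p`:
then `p = 5` and the group is simple of order 60.
-/
import Cfsg.Agent.Lib.DegTwoP.Setup
import Cfsg.Agent.Lib.DegTwoP.Section
import Cfsg.Agent.Lib.Char.Perm
import Cfsg.Agent.Lib.Char.Linear
import Cfsg.Agent.Lib.Char.Eigen
import Cfsg.Agent.Lib.Char.Integral
import Cfsg.Agent.S0719

set_option autoImplicit false

namespace Cfsg.Agent.DegTwoP

open Cfsg Cfsg.Agent.Char MulAction
open scoped ComplexConjugate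

local notation "v₂" => fun n : ℕ => Nat.factorization n 2

theorem v2_mul {a b : ℕ} (ha : a ≠ 0) (hb : b ≠ 0) :
    (a * b).factorization 2 = a.factorization 2 + b.factorization 2 := by
  rw [Nat.factorization_mul ha hb, Finsupp.add_apply]

theorem v2_odd {a : ℕ} (h : ¬ 2 ∣ a) : a.factorization 2 = 0 := Nat.factorization_eq_zero_of_not_dvd h

theorem v2_pos {a : ℕ} (ha : a ≠ 0) (h : 2 ∣ a) : 1 ≤ a.factorization 2 :=
  Nat.prime_two.factorization_pos_of_dvd ha h

theorem three_le_card {T : Type*} [Finite T] {a b c : T} (hab : a ≠ b) (hac : a ≠ c) (hbc : b ≠ c) :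
    3 ≤ Nat.card T := by
  classical
  have := Fintype.ofFinite T
  rw [Nat.card_eq_fintype_card,
    ← Finset.card_eq_three.2 ⟨a, b, c, hab, hac, hbc, (rfl : ({a, b, c} : Finset T) = {a, b, c})⟩]
  exact Finset.card_le_univ _

theorem eq_of_card_three {T : Type*} [Finite T] {a b c : T} (hab : a ≠ b) (hac : a ≠ c) (hbc : b ≠ c)
    (h : Nat.card T = 3) (x : T) : x = a ∨ x = b ∨ x = c := by
  classical
  have := Fintype.ofFinite T
  have h3 : ({a, b, c} : Finset T).card = 3 := Finset.card_eq_three.2 ⟨a, b, c, hab, hac, hbc, rfl⟩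
  have hu := Finset.eq_univ_of_card _ (h3.trans (h.symm.trans Nat.card_eq_fintype_card))
  simpa using hu.ge (Finset.mem_univ x)

variable {G : Type*} [Group G] [Finite G] {Ω : Type*} [MulAction G Ω]

/-- Orbit-stabilizer for the action of a point stabilizer. -/
theorem orbit_mul (γ δ : Ω) :
    Nat.card (orbit (stabilizer G γ) δ) * Nat.card ↥(stabilizer G γ ⊓ stabilizer G δ) =
      Nat.card (stabilizer G γ) := by
  rw [← (stabilizer (stabilizer G γ) δ).index_mul_card, index_stabilizer, Nat.card_coe_set_eq]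
  congr 1
  exact Nat.card_congr
    { toFun := fun g => ⟨⟨g.1, g.2.1⟩, g.2.2⟩
      invFun := fun g => ⟨(g.1 : G), g.1.2, g.2⟩
      left_inv := fun _ => rfl
      right_inv := fun _ => rfl }

theorem card_stab_conj (h : G) (γ δ : Ω) :
    Nat.card ↥(stabilizer G (h • γ) ⊓ stabilizer G (h • δ)) =
      Nat.card ↥(stabilizer G γ ⊓ stabilizer G δ) := by
  rw [stabilizer_smul_eq_stabilizer_map_conj, stabilizer_smul_eq_stabilizer_map_conj,
    ← Subgroup.map_inf _ _ _ (MulAut.conj h).injective,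
    Subgroup.card_map_of_injective (MulAut.conj h).injective]

set_option maxHeartbeats 2000000 in
theorem main {p : ℕ} [Fact p.Prime] [Fintype Ω] [FaithfulSMul G Ω] [IsPreprimitive G Ω]
    (hp3 : 3 < p) (hΩ : Fintype.card Ω = 2 * p) (hnot2 : ¬ IsMultiplyPretransitive G Ω 2)
    (P : Sylow p G) (hN : Nat.card (Subgroup.normalizer ((P : Subgroup G) : Set G)) = 2 * p) :
    p = 5 ∧ Nat.card G = 60 ∧ IsSimpleGroup G := by
  classical
  have := Fintype.ofFinite G
  have hpp : p.Prime := Fact.out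
  have hp5 : 5 ≤ p := by
    by_contra h
    have : p = 4 := by omega
    subst this
    exact absurd hpp (by norm_num)
  obtain ⟨hsimp, hnc, D, hDX⟩ := exists_data hΩ P hN hp5
  have hP := card_sylow hΩ P hN (by omega)
  have hfree : ∀ a : ZMod p, a ≠ 0 → ∀ ω : Ω, (D.e a : G) • ω ≠ ω := fun a ha =>
    free hΩ P hP (hDX.le (D.e a).2) fun h =>
      ha (D.e.injective (Subtype.ext (h.trans (e_zero D).symm)))
  -- the permutation character
  let π : G → ℂ := fun g => (Nat.card (fixedBy Ω g) : ℂ)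
  have hπ : IsCharacter G π := isCharacter_fixedPoints Ω
  have hne : Nonempty Ω := Fintype.card_pos_iff.1 (by omega)
  have hπ1 : classInner π (1 : G → ℂ) = 1 := by
    rw [classInner_fixedPoints_one]
    have : Subsingleton (orbitRel.Quotient G Ω) := (pretransitive_iff_subsingleton_quotient G Ω).1 inferInstance
    have : Nonempty (orbitRel.Quotient G Ω) := hne.map (Quotient.mk _)
    rw [Nat.card_unique, Nat.cast_one]
  have hπd : π 1 = 2 * (p : ℂ) := by
    simp only [π]
    rw [fixedBy_one_eq_univ, Nat.card_univ, Nat.card_eq_fintype_card, hΩ]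
    push_cast; ring
  have hπx : ∀ a : ZMod p, a ≠ 0 → π (D.e a : G) = 0 := by
    intro a ha
    have : IsEmpty (fixedBy Ω (D.e a : G)) := ⟨fun ω => hfree a ha ω.1 ω.2⟩
    simp only [π]
    rw [Nat.card_of_isEmpty, Nat.cast_zero]
  obtain ⟨a₀⟩ := hne
  have horb : classInner π π = (Nat.card (orbitRel.Quotient (stabilizer G a₀) Ω) : ℂ) := by
    rw [Perm.Orbital.card_suborbits a₀, ← classInner_fixedPoints_one]
    simp only [classInner, Pi.one_apply, map_one, mul_one, π, map_natCast, ← Nat.cast_mul]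
    congr 1
    refine Finset.sum_congr rfl fun g _ => congrArg Nat.cast ?_
    rw [← Nat.card_prod]
    exact Nat.card_congr
      { toFun := fun x => ⟨(x.1.1, x.2.1), Prod.ext x.1.2 x.2.2⟩
        invFun := fun x => (⟨x.1.1, congrArg Prod.fst x.2⟩, ⟨x.1.2, congrArg Prod.snd x.2⟩)
        left_inv := fun _ => rfl
        right_inv := fun _ => rfl }
  have hr : 3 ≤ Nat.card (orbitRel.Quotient (stabilizer G a₀) Ω) := by
    by_contra hlt
    apply hnot2
    rw [is_two_pretransitive_iff]
    have key : ∀ x y : Ω, x ≠ a₀ → y ≠ a₀ → ∃ g : stabilizer G a₀, g • x = y := by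
      intro x y hx hy
      by_contra hcon
      apply hlt
      have e : ∀ z : Ω, z ≠ a₀ → (⟦a₀⟧ : orbitRel.Quotient (stabilizer G a₀) Ω) ≠ ⟦z⟧ := fun z hz h => by
        obtain ⟨g, hg⟩ := orbitRel_apply.1 (Quotient.exact h.symm)
        exact hz (hg.symm.trans g.2)
      exact three_le_card (e x hx) (e y hy) fun h => hcon (orbitRel_apply.1 (Quotient.exact h.symm))
    intro a b c d hab hcd
    obtain ⟨g, hg⟩ := exists_smul_eq G a a₀
    obtain ⟨h, hh⟩ := exists_smul_eq G c a₀
    obtain ⟨k, hk⟩ := key (g • b) (h • d) (fun e => hab (smul_left_cancel g (hg.trans e.symm)))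
      (fun e => hcd (smul_left_cancel h (hh.trans e.symm)))
    refine ⟨h⁻¹ * k * g, ?_, ?_⟩
    · rw [mul_smul, mul_smul, hg, show (k : G) • a₀ = a₀ from k.2, ← hh, inv_smul_smul]
    · rw [mul_smul, mul_smul, show (k : G) • g • b = h • d from hk, inv_smul_smul]
  have hlin : ∀ χ : G → ℂ, IsIrrCharacter G χ → χ 1 = 1 → χ = 1 := by
    intro χ hχ h1
    obtain ⟨l, rfl⟩ := exists_hom_of_degree_one (IsIrrCharacter.isCharacter hχ) h1
    funext g
    rcases l.toHomUnits.normal_ker.eq_bot_or_eq_top with h | h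
    · exfalso
      obtain ⟨a, b, hab⟩ := hnc
      exact hab ((MonoidHom.ker_eq_bot_iff _).1 h (by rw [map_mul, map_mul, mul_comm]))
    · have : l.toHomUnits g = 1 := MonoidHom.mem_ker.1 (h ▸ Subgroup.mem_top g : g ∈ l.toHomUnits.ker)
      simpa using congrArg Units.val this
  obtain ⟨A, R, F, hπeq, hA1, hR1, hAe, h3, hFcard, hF1, hFx, hpair⟩ :=
    exists_characters D π hπ hπ1 hπd hπx _ hr horb hlin
  have hrank : Nat.card (orbitRel.Quotient (stabilizer G a₀) Ω) = 3 := by
    exact_mod_cast horb.symm.trans h3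
  -- the involution
  have htne : D.t ≠ 1 := fun h => D.t_not (h ▸ D.X.one_mem)
  have hto : orderOf D.t = 2 := orderOf_eq_prime (by rw [pow_two]; exact D.t_sq) htne
  have hte : Even (orderOf D.t) := by rw [hto]; exact even_two
  have hπt : Nat.card (fixedBy Ω D.t) = 2 := card_fixedBy_t D hΩ hfree (sign_eq_one hnc _)
  have hAcl := IsIrrCharacter.isClassFunction A.2
  have hAt : (A : G → ℂ) D.t = 0 := by
    set N := Subgroup.normalizer ((P : Subgroup G) : Set G)
    have hXN : D.X ≤ N := hDX.le.trans Subgroup.le_normalizer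
    have htN : D.t ∈ N := by
      refine Subgroup.mem_normalizer_fintype fun x hx => ?_
      obtain ⟨a, rfl⟩ : ∃ a, (D.e a : G) = x := ⟨D.e.symm ⟨x, hDX.ge hx⟩, by simp⟩
      rw [inv_eq_of_mul_eq_one_left D.t_sq, D.t_inv]
      exact hDX.le (D.e (-a)).2
    let φ : ZMod p ⊕ ZMod p → N := Sum.elim (fun a => ⟨D.e a, hXN (D.e a).2⟩)
      (fun a => ⟨D.t * D.e a, mul_mem htN (hXN (D.e a).2)⟩)
    have hφ : Function.Bijective φ := by
      refine (Nat.bijective_iff_injective_and_card φ).2 ⟨?_, by rw [hN, Nat.card_sum, Nat.card_zmod]; ring⟩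
      rintro (a | a) (b | b) h <;> simp only [φ, Sum.elim_inl, Sum.elim_inr, Subtype.mk.injEq] at h
      · rw [D.e.injective (Subtype.ext h)]
      · exact absurd (by rw [show D.t = (D.e a : G) * (D.e b : G)⁻¹ from by rw [h]; group]; exact mul_mem (D.e a).2 (inv_mem (D.e b).2)) D.t_not
      · exact absurd (by rw [show D.t = (D.e b : G) * (D.e a : G)⁻¹ from by rw [← h]; group]; exact mul_mem (D.e b).2 (inv_mem (D.e a).2)) D.t_not
      · rw [D.e.injective (Subtype.ext (mul_left_cancel h))]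
    have hidx : ((P : Subgroup G).subgroupOf N).index = 2 := by
      have h := ((P : Subgroup G).subgroupOf N).card_mul_index
      rw [Nat.card_congr (Subgroup.subgroupOfEquivOfLe Subgroup.le_normalizer).toEquiv, hP, hN, mul_comm 2 p] at h
      exact Nat.eq_of_mul_eq_mul_left (by omega) h
    let ε : N →* ℂ :=
      { toFun := fun g => if g ∈ (P : Subgroup G).subgroupOf N then 1 else -1
        map_one' := if_pos (one_mem _)
        map_mul' := fun a b => by
          have h := Subgroup.mul_mem_iff_of_index_two hidx (a := a) (b := b)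
          by_cases ha : a ∈ (P : Subgroup G).subgroupOf N <;>
            by_cases hb : b ∈ (P : Subgroup G).subgroupOf N <;> simp [h, ha, hb] }
    have hres := IsCharacter.restrict (IsIrrCharacter.isCharacter A.2) N
    obtain ⟨n1, hn1⟩ := IsCharacter.classInner_nat hres (isCharacter_one (G := N))
    obtain ⟨n2, hn2⟩ := IsCharacter.classInner_nat hres (isCharacter_of_hom ε)
    have hsum : ∀ f : N → ℂ, ∑ g, f g = (∑ a, f (φ (Sum.inl a))) + ∑ a, f (φ (Sum.inr a)) := fun f => by
      rw [← Fintype.sum_equiv (Equiv.ofBijective φ hφ) _ _ (fun s => rfl), Fintype.sum_sum_type]; rfl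
    have s1 : ∑ a : ZMod p, (A : G → ℂ) (D.e a : G) = 0 := by
      rw [← Finset.add_sum_erase _ _ (Finset.mem_univ (0 : ZMod p)), e_zero, hA1,
        Finset.sum_congr rfl (fun a ha => hAe a (Finset.mem_erase.1 ha).1), Finset.sum_const,
        Finset.card_erase_of_mem (Finset.mem_univ _), Finset.card_univ, ZMod.card, nsmul_eq_mul,
        Nat.cast_sub (by omega)]
      push_cast; ring
    have s2 : ∀ a : ZMod p, (A : G → ℂ) (D.t * (D.e a : G)) = (A : G → ℂ) D.t := by
      intro a
      obtain ⟨c, hc⟩ := isConj_iff.1 (conj_t D a)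
      rw [← hc, hAcl]
    have e1 : ∀ a, ε (φ (Sum.inl a)) = 1 := fun a => if_pos (hDX.le (D.e a).2)
    have e2 : ∀ a, ε (φ (Sum.inr a)) = -1 := fun a => if_neg fun h => D.t_not (hDX.ge (by
      have h' := mul_mem (Subgroup.mem_subgroupOf.1 h) (inv_mem (hDX.le (D.e a).2))
      simpa [φ] using h'))
    have hn1' : (p : ℂ) * (A : G → ℂ) D.t = (2 * p : ℕ) * (n1 : ℂ) := by
      rw [← hn1, classInner, hN, ← mul_assoc,
        mul_inv_cancel₀ (Nat.cast_ne_zero.2 (by omega)), one_mul, hsum]
      simp [φ, s1, s2]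
    have hn2' : -((p : ℂ) * (A : G → ℂ) D.t) = (2 * p : ℕ) * (n2 : ℂ) := by
      rw [← hn2, classInner, hN, ← mul_assoc,
        mul_inv_cancel₀ (Nat.cast_ne_zero.2 (by omega)), one_mul, hsum]
      simp only [e1, e2]
      simp [φ, s1, s2]
    have h0 : ((2 * p : ℕ) : ℂ) * (((n1 + n2 : ℕ) : ℂ)) = 0 := by
      push_cast at hn1' hn2' ⊢; linear_combination -hn1' - hn2'
    rcases mul_eq_zero.1 h0 with h | h
    · exact absurd (Nat.cast_eq_zero.1 h) (by omega)
    · rw [show n1 = 0 by have := Nat.cast_eq_zero.1 h; omega] at hn1'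
      have hp0 : (p : ℂ) ≠ 0 := pC_ne
      simpa [hp0] using hn1'
  have hp1C : (p : ℂ) - 1 ≠ 0 := fun h => by
    have : ((p : ℕ) : ℂ) = ((1 : ℕ) : ℂ) := by push_cast; linear_combination h
    exact absurd (Nat.cast_injective this) (by omega)
  have hp2C : (p : ℂ) - 2 ≠ 0 := fun h => by
    have : ((p : ℕ) : ℂ) = ((2 : ℕ) : ℂ) := by push_cast; linear_combination h
    exact absurd (Nat.cast_injective this) (by omega)
  have hGC : (Nat.card G : ℂ) ≠ 0 := Nat.cast_ne_zero.2 Nat.card_pos.ne'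
  -- all involutions are conjugate to `t`
  have hclass : ∀ x : G, x * x = 1 → x ≠ 1 → IsConj D.t x := by
    intro x hx hx1
    by_contra hcon
    have hxo : orderOf x = 2 := orderOf_eq_prime (by rw [pow_two]; exact hx) hx1
    have hxe : Even (orderOf x) := by rw [hxo]; exact even_two
    have h := hpair x x hxe hxe
    rw [pairs_zero D hx hx1 hcon, Nat.cast_zero] at h
    have hk : (Nat.card {z : G // IsConj x z} : ℂ) ≠ 0 := by
      have : Nonempty {z : G // IsConj x z} := ⟨⟨x, IsConj.refl x⟩⟩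
      exact Nat.cast_ne_zero.2 Nat.card_pos.ne'
    have hS := (mul_eq_zero.1 h.symm).resolve_left (div_ne_zero (mul_ne_zero hk hk) hGC)
    field_simp at hS
    have hsq : ((p : ℂ) - 1 - (A : G → ℂ) x) ^ 2 = 0 := by linear_combination hS
    have hA : (A : G → ℂ) x = (A : G → ℂ) 1 := by
      rw [hA1]; linear_combination -(pow_eq_zero_iff two_ne_zero).1 hsq
    obtain ⟨n, ρ, -, hρ⟩ := A.2
    have hdim : (A : G → ℂ) 1 = (Module.finrank ℂ (Fin n → ℂ) : ℂ) := by
      rw [← hρ, Representation.char_one]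
    have hxk : x ∈ MonoidHom.ker ρ :=
      MonoidHom.mem_ker.2 ((character_eq_finrank_iff ρ x).1 (by rw [hρ, hA, hdim]))
    rcases (MonoidHom.normal_ker ρ).eq_bot_or_eq_top with h | h
    · rw [h, Subgroup.mem_bot] at hxk
      exact hx1 hxk
    · have h1 : ρ (D.e 1 : G) = 1 :=
        MonoidHom.mem_ker.1 (h ▸ Subgroup.mem_top _ : (D.e 1 : G) ∈ MonoidHom.ker ρ)
      have h2 := (character_eq_finrank_iff ρ (D.e 1 : G)).2 h1
      rw [hρ, ← hdim, hAe 1 one_ne_zero, hA1] at h2
      exact pC_ne (p := p) (by linear_combination -h2)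
  have hfixcard : ∀ x : G, x * x = 1 → x ≠ 1 → Nat.card (fixedBy Ω x) = 2 := by
    intro x hx hx1
    obtain ⟨c, hc⟩ := isConj_iff.1 (hclass x hx hx1)
    have := (IsCharacter.isClassFunction hπ) D.t c
    rw [hc] at this
    simp only [π, hπt, Nat.cast_inj] at this
    exact this
  have hfix2 : ∀ x : G, x * x = 1 → x ≠ 1 → ∀ γ δ ω : Ω, γ ≠ δ → x • γ = γ → x • δ = δ → x • ω = ω →
      ω = γ ∨ ω = δ := by
    intro x hx hx1 γ δ ω hγδ hγ hδ hω
    have h := hfixcard x hx hx1
    by_contra hcon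
    rw [not_or] at hcon
    have := three_le_card (a := (⟨γ, hγ⟩ : fixedBy Ω x)) (b := ⟨δ, hδ⟩) (c := ⟨ω, hω⟩)
      (fun e => hγδ (congrArg Subtype.val e)) (fun e => hcon.1 (congrArg Subtype.val e).symm)
      (fun e => hcon.2 (congrArg Subtype.val e).symm)
    rw [h] at this
    omega
  set C := Subgroup.centralizer ({D.t} : Set G) with hCdef
  set k := Nat.card {z : G // IsConj D.t z}
  have hkc : k * Nat.card C = Nat.card G := card_conjugates_mul_card_centralizer D.t
  have hE1 : Nat.card G * (p - 1) = p * (p - 2) * (Nat.card C * Nat.card C) := by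
    have h := hpair D.t D.t hte hte
    rw [pairs_card D htne, hAt, show Nat.card {z : G // IsConj D.t z} = k from rfl] at h
    have hkc' : (k : ℂ) * (Nat.card C : ℂ) = (Nat.card G : ℂ) := by rw [← Nat.cast_mul, hkc]
    have h2 : ((Nat.card G * (p - 1) : ℕ) : ℂ) = ((p * (p - 2) * (Nat.card C * Nat.card C) : ℕ) : ℂ) := by
      push_cast [Nat.cast_sub (show 1 ≤ p by omega), Nat.cast_sub (show 2 ≤ p by omega)]
      field_simp at h
      have hk0 : (k : ℂ) ≠ 0 := fun e => hGC (by rw [← hkc', e, zero_mul])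
      refine mul_left_cancel₀ (mul_ne_zero hp1C (mul_ne_zero hk0 hk0)) ?_
      linear_combination -(Nat.card G : ℂ) * h -
        (p : ℂ) * ((p : ℂ) - 2) * ((p : ℂ) - 1) * ((k : ℂ) * (Nat.card C : ℂ) + (Nat.card G : ℂ)) * hkc'
    exact_mod_cast h2
  -- Wielandt's parameters
  obtain ⟨s, hs0, hps, hsub⟩ := S0719.result (G := G) (Ω := Ω) inferInstance (m := p) hΩ a₀ hrank
    (A : G → ℂ) (R : G → ℂ) A.2 R.2 (funext hπeq) hA1 hR1
  have hnormalize : ∀ γ : Ω, Nat.card (stabilizer G γ) * (2 * p) = Nat.card G := by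
    intro γ
    rw [← (stabilizer G γ).card_mul_index, index_stabilizer_of_transitive G γ, Nat.card_eq_fintype_card (α := Ω), hΩ]
  obtain ⟨⟨a, ha⟩, ⟨b, hb⟩, hab, -⟩ := Nat.card_eq_two_iff.1 hπt
  have hab' : a ≠ b := fun e => hab (Subtype.ext e)
  obtain ⟨h₀, hh₀⟩ := exists_smul_eq G a a₀
  set b₀ := h₀ • b
  set t₀ := h₀ * D.t * h₀⁻¹
  have hb₀ : b₀ ≠ a₀ := fun e => hab' (smul_left_cancel h₀ (hh₀.trans e.symm))
  have ht₀ : t₀ * t₀ = 1 := sq_of_isConj D.t_sq (isConj_iff.2 ⟨h₀, rfl⟩)
  have ht₀1 : t₀ ≠ 1 := fun e => htne (by simpa [t₀, conj_eq_one_iff] using e)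
  have ht₀a : t₀ • a₀ = a₀ := by
    simp only [t₀, ← hh₀, mul_smul, inv_smul_smul]; rw [show D.t • a = a from ha]
  have ht₀b : t₀ • b₀ = b₀ := by
    simp only [t₀, b₀, mul_smul, inv_smul_smul]; rw [show D.t • b = b from hb]
  -- the other suborbit
  obtain ⟨c₁, hc₁a, hc₁⟩ : ∃ c₁ : Ω, c₁ ≠ a₀ ∧ c₁ ∉ orbit (stabilizer G a₀) b₀ := by
    by_contra hcon
    push Not at hcon
    have hle : Nat.card (orbitRel.Quotient (stabilizer G a₀) Ω) ≤ 2 := by
      refine le_trans (Nat.card_le_card_of_surjective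
        (fun i : Bool => (⟦if i then a₀ else b₀⟧ : orbitRel.Quotient (stabilizer G a₀) Ω)) fun q => ?_) (by simp)
      induction q using Quotient.inductionOn with
      | h x =>
        by_cases hx : x = a₀
        · exact ⟨true, by subst hx; rfl⟩
        · exact ⟨false, Quotient.sound (orbitRel_apply.2 (orbit_eq_iff.2 (hcon x hx) ▸ mem_orbit_self b₀))⟩
    omega
  set d₁ := Nat.card (orbit (stabilizer G a₀) b₀) with hd₁
  set d₂ := Nat.card (orbit (stabilizer G a₀) c₁) with hd₂
  have hdsum : 1 + d₁ + d₂ = 2 * p := by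
    have := Fintype.ofFinite (orbitRel.Quotient (stabilizer G a₀) Ω)
    rw [hd₁, hd₂, ← hΩ, Nat.card_coe_set_eq, Nat.card_coe_set_eq]
    have hdis : ∀ x y : Ω, x ∉ orbit (stabilizer G a₀) y →
        Disjoint (orbit (stabilizer G a₀) x) (orbit (stabilizer G a₀) y) := by
      intro x y hxy
      rw [Set.disjoint_left]
      intro z hz1 hz2
      apply hxy
      rw [← orbit_eq_iff.2 hz2, orbit_eq_iff.2 hz1]
      exact mem_orbit_self x
    have ha0 : ∀ z, z ≠ a₀ → a₀ ∉ orbit (stabilizer G a₀) z := by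
      rintro z hz ⟨g, hg⟩
      exact hz (smul_left_cancel (g : G) (Eq.trans hg g.2.symm))
    have hcover : ({a₀} : Set Ω) ∪ orbit (stabilizer G a₀) b₀ ∪ orbit (stabilizer G a₀) c₁ = Set.univ := by
      refine Set.eq_univ_of_forall fun x => ?_
      have q0 : ∀ z, z ≠ a₀ → (⟦a₀⟧ : orbitRel.Quotient (stabilizer G a₀) Ω) ≠ ⟦z⟧ := fun z hz h =>
        ha0 z hz (orbitRel_apply.1 (Quotient.exact h))
      have q1 : (⟦b₀⟧ : orbitRel.Quotient (stabilizer G a₀) Ω) ≠ ⟦c₁⟧ := fun h =>
        hc₁ (orbitRel_apply.1 (Quotient.exact h.symm))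
      rcases eq_of_card_three (q0 _ hb₀) (q0 _ hc₁a) q1 hrank ⟦x⟧ with hx | hx | hx
      · obtain ⟨g, hg⟩ := orbitRel_apply.1 (Quotient.exact hx)
        exact Or.inl (Or.inl (hg.symm.trans g.2))
      · exact Or.inl (Or.inr (orbitRel_apply.1 (Quotient.exact hx)))
      · exact Or.inr (orbitRel_apply.1 (Quotient.exact hx))
    have hd01 : Disjoint ({a₀} : Set Ω) (orbit (stabilizer G a₀) b₀) :=
      Set.disjoint_singleton_left.2 (ha0 _ hb₀)
    have hd2 : Disjoint (({a₀} : Set Ω) ∪ orbit (stabilizer G a₀) b₀) (orbit (stabilizer G a₀) c₁) :=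
      Set.disjoint_union_left.2 ⟨Set.disjoint_singleton_left.2 (ha0 _ hc₁a), (hdis c₁ b₀ hc₁).symm⟩
    have h := congrArg Set.ncard hcover
    rw [Set.ncard_union_eq hd2, Set.ncard_union_eq hd01, Set.ncard_singleton, Set.ncard_univ,
      Nat.card_eq_fintype_card] at h
    exact h
  have hd₁e := hsub b₀ hb₀
  have hd₂e := hsub c₁ hc₁a
  rw [← hd₁] at hd₁e
  rw [← hd₂] at hd₂e
  have hGa : ∀ γ : Ω, Nat.card (stabilizer G γ) ≠ 0 := fun γ => Nat.card_pos.ne'
  have hodd2 : ¬ 2 ∣ Nat.card ↥(stabilizer G a₀ ⊓ stabilizer G c₁) := by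
    intro h
    obtain ⟨xs, hxs⟩ := exists_prime_orderOf_dvd_card' 2 h
    obtain ⟨hxa, hxc⟩ : (xs : G) • a₀ = a₀ ∧ (xs : G) • c₁ = c₁ := xs.2
    set x := (xs : G) with hxdef
    have hx : orderOf x = 2 := (Subgroup.orderOf_coe xs).trans hxs
    have hx2 : x * x = 1 := by rw [← pow_two, ← hx, pow_orderOf_eq_one]
    have hx1 : x ≠ 1 := fun e => by rw [e, orderOf_one] at hx; omega
    obtain ⟨h', hh'⟩ := isConj_iff.1 ((hclass _ ht₀ ht₀1).symm.trans (hclass x hx2 hx1))
    have hfx : ∀ z : Ω, t₀ • z = z → x • h' • z = h' • z := fun z hz => by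
      rw [← hh', mul_smul, mul_smul, inv_smul_smul, hz]
    have e1 := hfix2 x hx2 hx1 a₀ c₁ (h' • a₀) hc₁a.symm hxa hxc (hfx _ ht₀a)
    have e2 := hfix2 x hx2 hx1 a₀ c₁ (h' • b₀) hc₁a.symm hxa hxc (hfx _ ht₀b)
    have hne' : h' • a₀ ≠ h' • b₀ := fun e => hb₀ (smul_left_cancel h' e).symm
    have key : Nat.card ↥(stabilizer G a₀ ⊓ stabilizer G c₁) = Nat.card ↥(stabilizer G a₀ ⊓ stabilizer G b₀) := by
      rcases e1 with e1 | e1 <;> rcases e2 with e2 | e2
      · exact absurd (e1.trans e2.symm) hne'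
      · rw [← e2, ← card_stab_conj h' a₀ b₀, e1]
      · rw [← card_stab_conj h' a₀ b₀, e1, e2, inf_comm]
      · exact absurd (e1.trans e2.symm) hne'
    have m1 := orbit_mul (G := G) a₀ b₀
    have m2 := orbit_mul (G := G) a₀ c₁
    rw [key, ← m1] at m2
    have : d₂ = d₁ := Nat.eq_of_mul_eq_mul_right Nat.card_pos m2
    omega
  have heven1 : 2 ∣ Nat.card ↥(stabilizer G a₀ ⊓ stabilizer G b₀) := by
    have h : orderOf t₀ = 2 := orderOf_eq_prime (by rw [pow_two]; exact ht₀) ht₀1
    rw [← h]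
    exact Subgroup.orderOf_dvd_natCard _ (show t₀ ∈ stabilizer G a₀ ⊓ stabilizer G b₀ from ⟨ht₀a, ht₀b⟩)
  have hv := congrArg (fun n => n.factorization 2) (orbit_mul (G := G) a₀ c₁)
  have hv' := congrArg (fun n => n.factorization 2) (orbit_mul (G := G) a₀ b₀)
  simp only [← hd₁, ← hd₂] at hv hv'
  have hd10 : d₁ ≠ 0 := by rintro e; rcases hd₁e with h | h <;> rw [e] at h <;> nlinarith
  have hd20 : d₂ ≠ 0 := by rintro e; rcases hd₂e with h | h <;> rw [e] at h <;> nlinarith
  rw [v2_mul hd20 Nat.card_pos.ne', v2_odd hodd2, add_zero] at hv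
  rw [v2_mul hd10 Nat.card_pos.ne'] at hv'
  have := v2_pos Nat.card_pos.ne' heven1
  have hodd21 : (2 * s + 1).factorization 2 = 0 := v2_odd (by omega)
  have hss : (s * (s + 1)).factorization 2 = d₂.factorization 2 := by
    rw [v2_mul (by omega) (by omega)]
    have hparity : s.factorization 2 = 0 ∨ (s + 1).factorization 2 = 0 := by
      rcases Nat.even_or_odd s with ⟨r, hr⟩ | ⟨r, hr⟩
      · exact Or.inr (v2_odd (by omega))
      · exact Or.inl (v2_odd (by omega))
    rcases hd₁e with e1 | e1 <;> rcases hd₂e with e2 | e2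
    · omega
    · rw [e1, v2_mul (by omega) (by omega), hodd21] at hv'
      rw [e2, v2_mul (by omega) (by omega), hodd21] at hv ⊢
      omega
    · rw [e1, v2_mul (by omega) (by omega), hodd21] at hv'
      rw [e2, v2_mul (by omega) (by omega), hodd21] at hv ⊢
      omega
    · omega
  set v := (p - 1).factorization 2
  have hv1 : v = 1 + (Nat.card (stabilizer G a₀)).factorization 2 := by
    rw [show v = (p - 1).factorization 2 from rfl, show p - 1 = 2 * (s * (s + 1)) by rw [hps, mul_add, mul_one, pow_two]; omega,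
      v2_mul two_ne_zero (by positivity), hss, hv, Nat.prime_two.factorization_self]
  have hvG : (Nat.card G).factorization 2 = v := by
    rw [← hnormalize a₀, v2_mul (hGa _) (by omega), v2_mul two_ne_zero (by omega),
      Nat.prime_two.factorization_self, v2_odd (a := p) (by
        intro h; rcases (Nat.dvd_prime hpp).1 h with e | e <;> omega)]
    omega
  have hvC : (Nat.card C).factorization 2 = v := by
    have h := congrArg (fun n => n.factorization 2) hE1
    have hp2 : ¬ 2 ∣ p := fun h => by rcases (Nat.dvd_prime hpp).1 h with e | e <;> omega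
    rw [v2_mul Nat.card_pos.ne' (by omega), v2_mul (Nat.mul_ne_zero (by omega) (by omega)) (Nat.mul_ne_zero Nat.card_pos.ne' Nat.card_pos.ne'),
      v2_mul Nat.card_pos.ne' Nat.card_pos.ne', v2_mul (by omega) (by omega), v2_odd hp2,
      v2_odd (a := p - 2) (by omega), hvG] at h
    change v + v = _ at h
    omega
  -- a Sylow 2-subgroup of the centralizer
  have htC : D.t ∈ C := Subgroup.mem_centralizer_singleton_iff.2 rfl
  obtain ⟨S, hS⟩ := IsPGroup.exists_le_sylow (G := C) (p := 2) (P := Subgroup.zpowers (⟨D.t, htC⟩ : C))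
    (IsPGroup.of_card (n := 1) (by rw [Nat.card_zpowers, Subgroup.orderOf_mk, hto, pow_one]))
  set S' := (S : Subgroup C).map C.subtype with hS'
  have hS'C : S' ≤ C := Subgroup.map_subtype_le _
  have hS'card : Nat.card S' = 2 ^ v := by
    rw [hS', Subgroup.card_map_of_injective C.subtype_injective, Sylow.card_eq_multiplicity, hvC]
  have htS' : D.t ∈ S' := ⟨⟨D.t, htC⟩, hS (Subgroup.mem_zpowers _), rfl⟩
  have hperm : ∀ g ∈ C, g • a = a ∨ g • a = b := by
    intro g hg
    refine hfix2 D.t D.t_sq htne a b (g • a) hab' ha hb ?_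
    rw [← mul_smul, ← Subgroup.mem_centralizer_singleton_iff.1 hg, mul_smul]
    exact congrArg (g • ·) ha
  have hperm' : ∀ g ∈ C, g • a = b → g • b = a := by
    intro g hg he
    rcases hfix2 D.t D.t_sq htne a b (g • b) hab' ha hb (by
      rw [← mul_smul, ← Subgroup.mem_centralizer_singleton_iff.1 hg, mul_smul]
      exact congrArg (g • ·) hb) with h | h
    · exact h
    · exact absurd (smul_left_cancel g (he.trans h.symm)) hab'
  obtain ⟨z, hzS, hza⟩ : ∃ z ∈ S', z • a ≠ a := by
    by_contra hcon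
    push Not at hcon
    have hle : S' ≤ stabilizer G a := fun g hg => hcon g hg
    have h := Subgroup.card_dvd_of_le hle
    rw [hS'card, Nat.prime_two.pow_dvd_iff_le_factorization (hGa _),
      show (Nat.card (stabilizer G a)) = Nat.card (stabilizer G a₀) from
        Nat.eq_of_mul_eq_mul_right (by omega : 0 < 2 * p) ((hnormalize a).trans (hnormalize a₀).symm)] at h
    omega
  have hhalf : ∀ H : Subgroup G, H ≤ C → z ∈ H → Nat.card H = 2 * Nat.card ↥(H ⊓ stabilizer G a) := by
    intro H hH hzH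
    rw [← (stabilizer H a).index_mul_card, index_stabilizer]
    congr 1
    · have : orbit H a = {a, b} := by
        ext w
        constructor
        · rintro ⟨g, rfl⟩; exact hperm g (hH g.2)
        · rintro (rfl | rfl)
          · exact mem_orbit_self _
          · exact ⟨⟨z, hzH⟩, (hperm z (hH hzH)).resolve_left hza⟩
      rw [this, Set.ncard_pair hab']
    · exact Nat.card_congr
        { toFun := fun g => ⟨g.1.1, g.1.2, g.2⟩
          invFun := fun g => ⟨⟨g.1, g.2.1⟩, g.2.2⟩
          left_inv := fun _ => rfl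
          right_inv := fun _ => rfl }
  set S0 := S' ⊓ stabilizer G a with hS0
  have hout : ∀ g ∈ S', g • a ≠ a → g * g = 1 := by
    intro g hg hga
    have hgb := (hperm g (hS'C hg)).resolve_left hga
    have hba := hperm' g (hS'C hg) hgb
    obtain ⟨j, hj, hjord⟩ := (Nat.dvd_prime_pow Nat.prime_two).1 (hS'card ▸ Subgroup.orderOf_dvd_natCard S' hg)
    by_contra hne2
    have hj2 : 2 ≤ j := by
      by_contra h
      apply hne2
      rw [← pow_two, ← orderOf_dvd_iff_pow_eq_one, hjord, show (2 : ℕ) = 2 ^ 1 from rfl, ← pow_mul, one_mul]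
      exact pow_dvd_pow 2 (by omega)
    set w := g ^ 2 ^ (j - 1)
    have hpow2 : ∀ i, (g ^ (2 * i)) • a = a ∧ (g ^ (2 * i)) • b = b := by
      intro i
      induction i with
      | zero => simp
      | succ i ih =>
        rw [mul_add, mul_one, pow_add, pow_two, mul_smul, mul_smul, hgb, hba, mul_smul, mul_smul, hba, hgb]
        exact ih
    have hwev : (2 : ℕ) ^ (j - 1) = 2 * 2 ^ (j - 2) := by rw [← pow_succ']; congr 1; omega
    have hw2 : w * w = 1 := by
      rw [← pow_add, ← two_mul, ← pow_succ', show j - 1 + 1 = j by omega, ← hjord, pow_orderOf_eq_one]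
    have hw1 : w ≠ 1 := by
      intro h
      have := orderOf_dvd_of_pow_eq_one h
      rw [hjord, Nat.pow_dvd_pow_iff_le_right (by norm_num)] at this
      omega
    have hwa : w • a = a ∧ w • b = b := by
      simp only [w, hwev]
      exact hpow2 _
    let σ : Equiv.Perm Ω := toPermHom G Ω g
    let τ : Equiv.Perm Ω := Equiv.swap a b * σ
    have hτa : τ a = a := by
      show Equiv.swap a b (g • a) = a
      rw [hgb, Equiv.swap_apply_right]
    have hτb : τ b = b := by
      show Equiv.swap a b (g • b) = b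
      rw [hba, Equiv.swap_apply_left]
    have hmove : ∀ ω, ω ≠ a → ω ≠ b → g • ω ≠ a ∧ g • ω ≠ b := fun ω h1 h2 =>
      ⟨fun e => h2 (smul_left_cancel g (e.trans hba.symm)), fun e => h1 (smul_left_cancel g (e.trans hgb.symm))⟩
    have hpowτ : ∀ ω, ω ≠ a → ω ≠ b → ∀ l : ℕ,
        (τ ^ l) ω = g ^ l • ω ∧ g ^ l • ω ≠ a ∧ g ^ l • ω ≠ b := by
      intro ω h1 h2 l
      induction l with
      | zero => simp [h1, h2]
      | succ l ih =>
        rw [pow_succ', pow_succ', Equiv.Perm.mul_apply, ih.1, mul_smul]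
        obtain ⟨m1, m2⟩ := hmove _ ih.2.1 ih.2.2
        refine ⟨?_, m1, m2⟩
        show Equiv.swap a b (g • (g ^ l • ω)) = _
        rw [Equiv.swap_apply_of_ne_of_ne m1 m2]
    have hsemi : ∀ ω, ω ≠ a → ω ≠ b → ∀ l : ℕ, g ^ l • ω = ω → 2 ^ j ∣ l := by
      intro ω h1 h2 l hl
      by_contra hnd
      have hl0 : l ≠ 0 := fun e => hnd (e ▸ dvd_zero _)
      obtain ⟨i, m, hm, rfl⟩ := Nat.exists_eq_two_pow_mul_odd hl0
      have hij : i < j := by
        by_contra h
        exact hnd ((pow_dvd_pow 2 (by omega)).trans (dvd_mul_right _ _))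
      have hw' : (g ^ (2 ^ i * m)) ^ 2 ^ (j - 1 - i) = w := by
        rw [← pow_mul, mul_right_comm, ← pow_add, show i + (j - 1 - i) = j - 1 by omega, pow_mul]
        obtain ⟨r, rfl⟩ := hm
        rw [pow_succ, pow_mul, pow_two, hw2, one_pow, one_mul]
      have hfixω : w • ω = ω := by
        rw [← hw']
        exact MulAction.mem_stabilizer_iff.1 (pow_mem (show g ^ (2 ^ i * m) ∈ stabilizer G ω from hl) _)
      rcases hfix2 w hw2 hw1 a b ω hab' hwa.1 hwa.2 hfixω with e | e
      · exact h1 e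
      · exact h2 e
    have hsupp : τ.support = ({a, b} : Finset Ω)ᶜ := by
      ext ω
      simp only [Equiv.Perm.mem_support, Finset.mem_compl, Finset.mem_insert, Finset.mem_singleton, not_or]
      constructor
      · intro h
        exact ⟨fun e => h (e ▸ hτa), fun e => h (e ▸ hτb)⟩
      · rintro ⟨h1, h2⟩ h
        have h' := (hpowτ ω h1 h2 1).1
        rw [pow_one] at h'
        have := Nat.le_of_dvd one_pos (hsemi ω h1 h2 1 (h'.symm.trans h))
        have : 2 ^ 2 ≤ 2 ^ j := Nat.pow_le_pow_right (by norm_num) hj2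
        omega
    have hmem : ∀ ω, ω ∈ τ.support → ω ≠ a ∧ ω ≠ b := fun ω h => by
      rw [hsupp] at h
      simpa using h
    have hτord : τ ^ 2 ^ j = 1 := by
      ext ω
      by_cases h1 : ω = a
      · rw [h1]; exact Equiv.Perm.pow_apply_eq_self_of_apply_eq_self hτa _
      by_cases h2 : ω = b
      · rw [h2]; exact Equiv.Perm.pow_apply_eq_self_of_apply_eq_self hτb _
      rw [(hpowτ ω h1 h2 _).1, ← hjord, pow_orderOf_eq_one, one_smul]; rfl
    obtain ⟨hdvd, hsgn⟩ := sign_of_free τ (n := 2 ^ j) (by positivity) hτord (fun ω hω l hl => by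
      obtain ⟨h1, h2⟩ := hmem ω hω
      exact hsemi ω h1 h2 l ((hpowτ ω h1 h2 l).1.symm.trans hl))
    have hcardsupp : τ.support.card = 2 * p - 2 := by
      rw [hsupp, Finset.card_compl, Finset.card_pair hab', hΩ]
    rw [hcardsupp] at hdvd hsgn
    have hsg : Equiv.Perm.sign τ = -1 := by
      rw [map_mul, Equiv.Perm.sign_swap hab', show Equiv.Perm.sign σ = 1 from sign_eq_one hnc g, mul_one]
    obtain ⟨q, hq⟩ := hdvd
    rw [hsg, hq, Nat.mul_div_cancel_left q (by positivity)] at hsgn
    have hqodd : ¬ 2 ∣ q := by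
      rintro ⟨r, rfl⟩
      rw [show 2 ^ j * (2 * r) + 2 * r = 2 * (2 ^ j * r + r) by ring, pow_mul] at hsgn
      simp at hsgn
    have h := congrArg (fun n => n.factorization 2) hq
    rw [show 2 * p - 2 = 2 * (p - 1) by omega, v2_mul two_ne_zero (by omega), v2_mul (by positivity) (by rintro rfl; simp at hqodd),
      v2_odd hqodd, Nat.prime_two.factorization_self, Nat.prime_two.factorization_pow, Finsupp.single_eq_same] at h
    change 1 + v = j + 0 at h
    omega
  have hz2 := hout z hzS hza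
  have hzi : z⁻¹ = z := inv_eq_of_mul_eq_one_left hz2
  have hinv : ∀ x ∈ S0, z * x * z = x⁻¹ := by
    intro x hx
    have h := hout (z * x) (mul_mem hzS hx.1) (by rw [mul_smul, hx.2]; exact hza)
    refine (inv_eq_of_mul_eq_one_left ?_).symm
    simpa only [mul_assoc] using h
  have hS0comm : ∀ x y : S0, x * y = y * x := by
    intro x y
    apply Subtype.ext
    have h1 := hinv _ (mul_mem x.2 y.2)
    have h2 : z * ((x : G) * y) * z = (x : G)⁻¹ * (y : G)⁻¹ := by
      rw [← hinv x x.2, ← hinv y y.2]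
      simp only [mul_assoc]
      rw [← mul_assoc z z, hz2, one_mul]
    rw [h2, ← mul_inv_rev, inv_inj] at h1
    exact h1.symm
  have hS0uniq : ∀ x y : S0, orderOf x = 2 → orderOf y = 2 → x = y := by
    intro x y hx hy
    by_contra hne'
    obtain ⟨⟨γ, hγ⟩, ⟨δ, hδ⟩, hγδ, -⟩ := Nat.card_eq_two_iff.1 (hfixcard z hz2 (fun e => hza (e ▸ one_smul G a)))
    have hγδ' : γ ≠ δ := fun e => hγδ (Subtype.ext e)
    have hzb := (hperm z (hS'C hzS)).resolve_left hza
    have hγa : γ ≠ a := fun e => hza (e ▸ hγ)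
    have hγb : γ ≠ b := fun e => by
      have hb' : z • b = b := e ▸ hγ
      exact hab' ((hperm' z (hS'C hzS) hzb).symm.trans hb')
    have key : ∀ w : S0, orderOf w = 2 →
        (w : G) * w = 1 ∧ (w : G) ≠ 1 ∧ (w : G) • a = a ∧ (w : G) • b = b ∧ (w : G) • γ = δ := by
      intro w hw
      have hw' : orderOf (w : G) = 2 := (Subgroup.orderOf_coe w).trans hw
      have hw2 : (w : G) * w = 1 := by rw [← pow_two, ← hw', pow_orderOf_eq_one]
      have hw1 : (w : G) ≠ 1 := fun e => by rw [e, orderOf_one] at hw'; omega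
      have hwb : (w : G) • b = b := by
        rcases hperm _ (hS'C w.2.1) with h | h
        · rcases hfix2 D.t D.t_sq htne a b ((w : G) • b) hab' ha hb (by
            rw [← mul_smul, ← Subgroup.mem_centralizer_singleton_iff.1 (hS'C w.2.1), mul_smul]
            exact congrArg ((w : G) • ·) hb) with h' | h'
          · exact absurd (smul_left_cancel _ (h'.trans h.symm)) hab'.symm
          · exact h'
        · exact absurd (w.2.2.symm.trans h) hab'
      refine ⟨hw2, hw1, w.2.2, hwb, ?_⟩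
      have hwz : z * (w : G) = (w : G) * z := by
        have h := hinv w w.2
        rw [inv_eq_of_mul_eq_one_left hw2] at h
        calc z * (w : G) = z * w * z * z := by rw [mul_assoc (z * (w : G)), hz2, mul_one]
          _ = w * z := by rw [h]
      have hfz : z • (w : G) • γ = (w : G) • γ := by rw [← mul_smul, hwz, mul_smul, hγ]
      rcases hfix2 z hz2 (fun e => hza (e ▸ one_smul G a)) γ δ _ hγδ' hγ hδ hfz with h | h
      · exfalso
        rcases hfix2 _ hw2 hw1 a b γ hab' w.2.2 hwb h with e | e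
        · exact hγa e
        · exact hγb e
      · exact h
    obtain ⟨hx2, hx1, hxa, hxb, hxγ⟩ := key x hx
    obtain ⟨hy2, hy1, hya, hyb, hyγ⟩ := key y hy
    have hxy : ((x : G) * y) * ((x : G) * y) = 1 := by
      have e : (y : G) * x = x * y := congrArg Subtype.val (hS0comm y x)
      rw [← mul_assoc, mul_assoc (x : G) y x, e, ← mul_assoc, hx2, one_mul, hy2]
    have hxy1 : (x : G) * y ≠ 1 := fun e => hne' (Subtype.ext (mul_right_cancel (e.trans hy2.symm)))
    rcases hfix2 _ hxy hxy1 a b γ hab' (by rw [mul_smul, hya, hxa]) (by rw [mul_smul, hyb, hxb]) (by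
      rw [mul_smul, hyγ, ← hxγ, ← mul_smul, hx2, one_smul]) with e | e
    · exact hγa e
    · exact hγb e
  -- the odd part of the centralizer
  set C0 := C ⊓ stabilizer G a
  have hzC : z ∈ C := hS'C hzS
  have hC0 : Nat.card C = 2 * Nat.card C0 := hhalf C le_rfl hzC
  have hS0card : 2 * Nat.card S0 = 2 ^ v := (hhalf S' hS'C hzS).symm.trans hS'card
  have hvpos : 1 ≤ v := by omega
  have hS0card' : Nat.card S0 = 2 ^ (v - 1) := by
    have : (2 : ℕ) ^ v = 2 * 2 ^ (v - 1) := by rw [← pow_succ', Nat.sub_add_cancel hvpos]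
    omega
  have hS0C0 : S0 ≤ C0 := inf_le_inf_right _ hS'C
  have hS0p : IsPGroup 2 (S0.subgroupOf C0) := IsPGroup.of_card (n := v - 1)
    (by rw [Nat.card_congr (Subgroup.subgroupOfEquivOfLe hS0C0).toEquiv, hS0card'])
  have hidx0 : ¬ 2 ∣ (S0.subgroupOf C0).index := by
    intro h
    have h1 := (S0.subgroupOf C0).card_mul_index
    rw [Nat.card_congr (Subgroup.subgroupOfEquivOfLe hS0C0).toEquiv, hS0card'] at h1
    have h2 := congrArg (fun n => n.factorization 2) hC0
    rw [hvC, v2_mul two_ne_zero Nat.card_pos.ne', Nat.prime_two.factorization_self, ← h1,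
      v2_mul (by positivity) Subgroup.index_ne_zero_of_finite, Nat.prime_two.factorization_pow,
      Finsupp.single_eq_same] at h2
    have := v2_pos Subgroup.index_ne_zero_of_finite h
    omega
  have hcyc : IsCyclic S0 := isCyclic_of_involution_unique (IsPGroup.of_card (n := v - 1) hS0card') hS0comm hS0uniq
  obtain ⟨K0, hK0, hK0card⟩ := exists_odd_subgroup (hS0p.toSylow hidx0)
    (isCyclic_of_surjective (Subgroup.subgroupOfEquivOfLe hS0C0).symm.toMonoidHom
      (Subgroup.subgroupOfEquivOfLe hS0C0).symm.surjective)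
  set K := K0.map C0.subtype with hKdef
  have hKC : K ≤ C := (Subgroup.map_subtype_le _).trans inf_le_left
  have hKodd : ∀ x ∈ K, Odd (orderOf x) := by
    rintro _ ⟨y, hy, rfl⟩
    show Odd (orderOf (y : G))
    rw [Subgroup.orderOf_coe]; exact (hK0 y).1 hy
  have hK : ∀ x ∈ C, Odd (orderOf x) ↔ x ∈ K := by
    refine fun x hx => ⟨fun hodd => ?_, hKodd x⟩
    have hxa : x • a = a := by
      rcases hperm x hx with h | h
      · exact h
      · exfalso
        have h' := hperm' x hx h
        obtain ⟨r, hr⟩ := hodd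
        have : ∀ i, x ^ (2 * i) • a = a := by
          intro i
          induction i with
          | zero => simp
          | succ i ih => rw [mul_add, mul_one, pow_add, pow_two, mul_smul, mul_smul, h, h', ih]
        have h1 : x ^ (2 * r + 1) • a = b := by rw [pow_succ', mul_smul, this, h]
        rw [← hr, pow_orderOf_eq_one, one_smul] at h1
        exact hab' h1
    exact ⟨⟨x, hx, hxa⟩, (hK0 _).2 (by rw [← Subgroup.orderOf_coe]; exact hodd), rfl⟩
  have hKcard : Nat.card C = Nat.card K * 2 ^ v := by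
    rw [hC0, ← hK0card, IsPGroup.toSylow_coe, Nat.card_congr (Subgroup.subgroupOfEquivOfLe hS0C0).toEquiv,
      hS0card', hKdef, Subgroup.card_map_of_injective C0.subtype_injective,
      show (2 : ℕ) ^ v = 2 * 2 ^ (v - 1) by rw [← pow_succ', Nat.sub_add_cancel hvpos]]
    ring
  have htK : D.t ∉ K := fun h => by
    have := hKodd _ h
    rw [hto] at this
    exact absurd this (by decide)
  have := Fintype.ofFinite K
  have := Fintype.ofFinite (IrrCharacter G)
  have hKodd' : Odd (Nat.card K) := by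
    rw [← Nat.not_even_iff_odd, even_iff_two_dvd]
    intro h
    obtain ⟨x, hx⟩ := exists_prime_orderOf_dvd_card' 2 h
    have := hKodd x x.2
    rw [Subgroup.orderOf_coe, hx] at this
    exact absurd this (by decide)
  have hAeven : ∀ y : K, ∃ n : ℤ, (A : G → ℂ) (D.t * y) = 2 * (n : ℂ) := by
    intro y
    have hyC := hKC y.2
    have hcomm : Commute D.t (y : G) := (Subgroup.mem_centralizer_singleton_iff.1 hyC).symm
    have hoy := hKodd _ y.2
    have hxe : Even (orderOf (D.t * (y : G))) := by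
      rw [hcomm.orderOf_mul_eq_mul_orderOf_of_coprime (by rw [hto]; exact Nat.coprime_two_left.2 hoy), hto]
      exact even_two_mul _
    have h := hpair D.t (D.t * y) hte hxe
    rw [hAt, show Nat.card {z : G // IsConj D.t z} = k from rfl] at h
    set x := D.t * (y : G)
    set Np := Nat.card {q : G × G // IsConj D.t q.1 ∧ IsConj x q.2 ∧ q.1 * q.2 = (D.e 1 : G)}
    set kx := Nat.card {z : G // IsConj x z}
    set cx := Nat.card (Subgroup.centralizer ({x} : Set G))
    have hkx : kx * cx = Nat.card G := card_conjugates_mul_card_centralizer x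
    have hkx' : (kx : ℂ) * (cx : ℂ) = (Nat.card G : ℂ) := by rw [← Nat.cast_mul, hkx]
    have hkc' : (k : ℂ) * (Nat.card C : ℂ) = (Nat.card G : ℂ) := by rw [← Nat.cast_mul, hkc]
    have hE1' : (Nat.card G : ℂ) * ((p : ℂ) - 1) = (p : ℂ) * ((p : ℂ) - 2) * ((Nat.card C : ℂ) * Nat.card C) := by
      have := congrArg (fun n : ℕ => (n : ℂ)) hE1
      push_cast [Nat.cast_sub (show 1 ≤ p by omega), Nat.cast_sub (show 2 ≤ p by omega)] at this
      exact this
    have hcne : (Nat.card C : ℂ) ≠ 0 := Nat.cast_ne_zero.2 Nat.card_pos.ne'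
    have hQ : ((Np * cx * (p - 1) : ℕ) : ℂ) / ((p * Nat.card C : ℕ) : ℂ) = (p : ℂ) - 1 - (A : G → ℂ) x := by
      push_cast [Nat.cast_sub (show 1 ≤ p by omega)]
      rw [div_eq_iff (mul_ne_zero pC_ne hcne)]
      field_simp at h
      refine mul_left_cancel₀ (mul_ne_zero hGC (mul_ne_zero hp2C hcne)) ?_
      linear_combination (cx : ℂ) * (Nat.card C : ℂ) * h +
        ((p : ℂ) - 1) * ((p : ℂ) - 1 - (A : G → ℂ) x) * ((kx : ℂ) * (cx : ℂ)) * hkc' +
        ((p : ℂ) - 1) * ((p : ℂ) - 1 - (A : G → ℂ) x) * (Nat.card G : ℂ) * hkx' +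
        (Nat.card G : ℂ) * ((p : ℂ) - 1 - (A : G → ℂ) x) * hE1'
    have hint : IsIntegral ℤ ((p : ℂ) - 1 - (A : G → ℂ) x) :=
      IsIntegral.sub (IsIntegral.sub (isIntegral_algebraMap (x := (p : ℤ))) isIntegral_one)
        (IsCharacter.isIntegral (IsIrrCharacter.isCharacter A.2) x)
    obtain ⟨Q, hQe⟩ := nat_dvd_of_isIntegral_div (Nat.mul_ne_zero (by omega) Nat.card_pos.ne') (hQ ▸ hint)
    rw [hQe] at hQ
    push_cast at hQ
    rw [mul_div_cancel_left₀ _ (mul_ne_zero pC_ne hcne)] at hQ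
    have hcx : 2 ∣ cx := by
      rw [← hto]
      refine Subgroup.orderOf_dvd_natCard _ (Subgroup.mem_centralizer_singleton_iff.2 ?_)
      show D.t * (D.t * y) = D.t * y * D.t
      rw [mul_assoc, ← hcomm.eq]
    have hQ2 : 2 ∣ Q := by
      rcases Nat.eq_zero_or_pos Q with h0 | h0
      · exact h0 ▸ dvd_zero 2
      have hp2 : ¬ 2 ∣ p := fun h => by rcases (Nat.dvd_prime hpp).1 h with e | e <;> omega
      by_contra hodd
      have hne0 : Np * cx * (p - 1) ≠ 0 := by
        rw [hQe]; exact Nat.mul_ne_zero (Nat.mul_ne_zero (by omega) Nat.card_pos.ne') (by omega)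
      have h1 := congrArg (fun n => n.factorization 2) hQe
      rw [v2_mul (left_ne_zero_of_mul hne0) (right_ne_zero_of_mul hne0),
        v2_mul (left_ne_zero_of_mul (left_ne_zero_of_mul hne0)) (Nat.card_pos.ne'),
        v2_mul (Nat.mul_ne_zero (by omega) Nat.card_pos.ne') (by omega),
        v2_mul (by omega) Nat.card_pos.ne', v2_odd hp2, hvC, v2_odd hodd] at h1
      have := v2_pos Nat.card_pos.ne' hcx
      change _ + _ + v = _ at h1
      omega
    obtain ⟨Q', rfl⟩ := hQ2
    obtain ⟨m, hm⟩ := (hpp.odd_of_ne_two (by omega))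
    refine ⟨(m : ℤ) - Q', ?_⟩
    have hmC : (p : ℂ) = 2 * (m : ℂ) + 1 := by rw [hm]; push_cast; ring
    push_cast at hQ ⊢
    linear_combination hQ + hmC
  obtain ⟨q, hq⟩ := exists_sum_eq_mul D.t_sq hKC htK (IsIrrCharacter.isCharacter A.2)
  choose nA hnA using hAeven
  have hqeven : 2 ∣ q := by
    have h1 : ((∑ y : K, 2 * nA y : ℤ) : ℂ) = (((Nat.card K : ℤ) * q : ℤ) : ℂ) := by
      push_cast
      rw [← hq]
      exact Finset.sum_congr rfl fun y _ => (hnA y).symm
    have h2 : (2 : ℤ) ∣ (Nat.card K : ℤ) * q := ⟨∑ y : K, nA y, by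
      rw [← Int.cast_inj.1 h1, Finset.mul_sum]⟩
    rcases Int.prime_two.dvd_mul.1 h2 with h | h
    · exact absurd (by exact_mod_cast h : 2 ∣ Nat.card K) (by
        obtain ⟨r, hr⟩ := hKodd'; omega)
    · exact h
  -- the count
  have horth := congrArg Complex.re (sum_mul_conj_sum (t := D.t) D.t_sq hKC hK)
  simp only [Complex.re_sum, Complex.natCast_re, Complex.mul_conj, Complex.ofReal_re] at horth
  let one : IrrCharacter G := ⟨1, isIrrCharacter_one⟩
  have hterm : ∀ χ ∈ insert one F, ((Nat.card K : ℝ)) ^ 2 ≤ Complex.normSq (∑ y : K, (χ : G → ℂ) (D.t * y)) := by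
    intro χ hχ
    rcases Finset.mem_insert.1 hχ with rfl | hχ
    · simp [one, Complex.normSq_natCast, Nat.card_eq_fintype_card, pow_two]
    · have hval : ∀ y : K, (χ : G → ℂ) (D.t * y) = (A : G → ℂ) (D.t * y) - 1 := fun y => by
        refine hFx χ hχ _ ?_
        have hcomm : Commute D.t (y : G) := (Subgroup.mem_centralizer_singleton_iff.1 (hKC y.2)).symm
        rw [hcomm.orderOf_mul_eq_mul_orderOf_of_coprime (by rw [hto]; exact Nat.coprime_two_left.2 (hKodd _ y.2)), hto]
        exact even_two_mul _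
      rw [Finset.sum_congr rfl fun y _ => hval y, Finset.sum_sub_distrib, hq, Finset.sum_const,
        Finset.card_univ, ← Nat.card_eq_fintype_card, nsmul_eq_mul]
      have e : (Nat.card K : ℂ) * (q : ℂ) - (Nat.card K : ℂ) * 1 = (((Nat.card K : ℝ) * ((q - 1 : ℤ) : ℝ) : ℝ) : ℂ) := by
        push_cast; ring
      rw [e, Complex.normSq_ofReal]
      have h1 : (1 : ℤ) ≤ (q - 1) ^ 2 := by
        obtain ⟨r, rfl⟩ := hqeven
        rcases le_or_gt r 0 with hr | hr <;> nlinarith
      have h1' : (1 : ℝ) ≤ ((q - 1 : ℤ) : ℝ) ^ 2 := by exact_mod_cast h1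
      nlinarith [sq_nonneg (Nat.card K : ℝ)]
  have hle := (Finset.card_nsmul_le_sum (insert one F) _ _ hterm).trans
    (Finset.sum_le_sum_of_subset_of_nonneg (Finset.subset_univ _) (fun χ _ _ => Complex.normSq_nonneg _))
  rw [horth, Finset.card_insert_of_notMem (fun h => hF1 one h rfl), nsmul_eq_mul] at hle
  have hbound : F.card + 1 ≤ 2 ^ v := by
    have h : (F.card + 1) * Nat.card K ^ 2 ≤ Nat.card K * (Nat.card K * 2 ^ v) := by
      rw [← hKcard]; exact_mod_cast hle
    refine Nat.le_of_mul_le_mul_right ?_ (pow_pos (Nat.card_pos (α := K)) 2)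
    calc (F.card + 1) * Nat.card K ^ 2 ≤ _ := h
      _ = 2 ^ v * Nat.card K ^ 2 := by ring
  -- `p = 5`
  have hs1 : s = 1 := by
    obtain ⟨o, ho⟩ : 2 ^ v ∣ p - 1 := Nat.ordProj_dvd (p - 1) 2
    have ho1 : o = 1 := by
      have : 2 ^ v * o < 2 ^ v * 2 := by omega
      have := Nat.lt_of_mul_lt_mul_left this
      rcases Nat.eq_zero_or_pos o with h | h
      · rw [h, mul_zero] at ho; omega
      · omega
    have hprod : s * (s + 1) = 2 ^ (v - 1) := by
      have h1 : p - 1 = 2 * (s * (s + 1)) := by rw [hps, mul_add, mul_one, pow_two]; omega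
      have h2 : (2 : ℕ) ^ v = 2 * 2 ^ (v - 1) := by rw [← pow_succ', Nat.sub_add_cancel hvpos]
      rw [ho1, mul_one] at ho
      omega
    by_contra hs
    rcases Nat.even_or_odd s with hev | hod
    · obtain ⟨i, -, hi⟩ := (Nat.dvd_prime_pow Nat.prime_two).1 (hprod ▸ dvd_mul_left (s + 1) s)
      rcases Nat.eq_zero_or_pos i with rfl | hpos
      · simp at hi; omega
      · have : Even (s + 1) := hi ▸ (Nat.even_pow.2 ⟨even_two, hpos.ne'⟩)
        obtain ⟨r, hr⟩ := this; obtain ⟨r', hr'⟩ := hev; omega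
    · obtain ⟨i, -, hi⟩ := (Nat.dvd_prime_pow Nat.prime_two).1 (hprod ▸ dvd_mul_right s (s + 1))
      rcases Nat.eq_zero_or_pos i with rfl | hpos
      · simp at hi; omega
      · have : Even s := hi ▸ (Nat.even_pow.2 ⟨even_two, hpos.ne'⟩)
        obtain ⟨r, hr⟩ := this; obtain ⟨r', hr'⟩ := hod; omega
  subst hs1
  have hp : p = 5 := by norm_num at hps; exact hps
  subst hp
  refine ⟨rfl, ?_, hsimp⟩
  set m := Nat.card (stabilizer G a₀)
  have hG10 : Nat.card G = m * 10 := (hnormalize a₀).symm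
  have hv2 : v = 2 := by
    show Nat.factorization 4 2 = 2
    rw [show (4 : ℕ) = 2 ^ 2 from rfl, Nat.prime_two.factorization_pow, Finsupp.single_eq_same]
  have hprimes : ∀ r : ℕ, r.Prime → r ∣ m → r = 2 ∨ r = 3 := by
    intro r hr hrm
    by_contra hcon
    have hr5 : 5 ≤ r := by
      have := hr.two_le
      by_contra h
      interval_cases r <;> first | exact hcon (Or.inl rfl) | exact hcon (Or.inr rfl) | (norm_num at hr)
    rcases eq_or_ne r 5 with rfl | hr7
    · exact not_sq_dvd P hP (hG10 ▸ Nat.mul_dvd_mul hrm (by norm_num))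
    have hr7' : 7 ≤ r := by
      by_contra h
      have : r = 6 := by omega
      subst this
      exact absurd hr (by norm_num)
    have := Fact.mk hr
    obtain ⟨x, hx⟩ := exists_prime_orderOf_dvd_card' r hrm
    have hxω : ∀ ω : Ω, (x : G) • ω = ω := by
      intro ω
      by_cases hω : ω = a₀
      · rw [hω]; exact x.2
      have hsmall : Nat.card (orbit (stabilizer G a₀) ω) ≤ 6 := by
        rcases hsub ω hω with h | h <;> omega
      have hle : Nat.card (orbit (Subgroup.zpowers x) ω) ≤ 6 := by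
        refine le_trans (Nat.card_mono (Set.toFinite _) ?_) hsmall
        rintro _ ⟨g, rfl⟩
        exact ⟨g, rfl⟩
      have hdvd : Nat.card (orbit (Subgroup.zpowers x) ω) ∣ r := by
        rw [Nat.card_coe_set_eq, ← index_stabilizer]
        exact (Subgroup.index_dvd_card _).trans ((Nat.card_zpowers x).trans hx).dvd
      rcases (Nat.dvd_prime hr).1 hdvd with h | h
      · have := (Nat.card_eq_one_iff_unique.1 h).1
        exact congrArg Subtype.val (Subsingleton.elim
          (⟨_, mem_orbit ω (⟨x, Subgroup.mem_zpowers x⟩ : Subgroup.zpowers x)⟩ : orbit (Subgroup.zpowers x) ω)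
          ⟨ω, mem_orbit_self ω⟩)
      · omega
    have : (x : G) = 1 := FaithfulSMul.eq_of_smul_eq_smul (α := Ω) (fun ω => by rw [hxω, one_smul])
    rw [← Subgroup.orderOf_coe, this, orderOf_one] at hx
    omega
  have hm2 : m.factorization 2 = 1 := by omega
  obtain ⟨m', hm'⟩ : 2 ∣ m := Nat.dvd_of_factorization_pos (by rw [hm2]; norm_num)
  have hm'0 : m' ≠ 0 := fun e => hGa a₀ (by rw [show Nat.card (stabilizer G a₀) = m from rfl, hm', e])
  have hm'3 : m' = 3 ^ m'.primeFactorsList.length := by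
    refine Nat.eq_prime_pow_of_unique_prime_dvd hm'0 fun {r} hr hd => ?_
    rcases hprimes r hr (hm' ▸ hd.mul_left 2) with rfl | h
    · exfalso
      rw [hm', v2_mul two_ne_zero hm'0, Nat.prime_two.factorization_self] at hm2
      have := v2_pos hm'0 hd
      omega
    · exact h
  have hsylow : m % 5 = 1 := by
    have h := card_sylow_modEq_one 5 G
    rw [Sylow.card_eq_index_normalizer P] at h
    have h2 := (Subgroup.normalizer ((P : Subgroup G) : Set G)).card_mul_index
    rw [hN, hG10] at h2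
    have : (Subgroup.normalizer ((P : Subgroup G) : Set G)).index = m := by omega
    exact (congrArg (· % 5) this.symm).trans h
  have hdiv : Nat.card G ∣ Nat.factorial 10 := by
    have := Subgroup.card_dvd_of_injective (toPermHom G Ω) (toPerm_injective)
    rwa [Nat.card_perm, Nat.card_eq_fintype_card (α := Ω), hΩ] at this
  generalize hl : m'.primeFactorsList.length = l at hm'3
  subst hm'3
  rw [hm'] at hsylow hG10
  rw [hG10] at hdiv ⊢
  have hl4 : l ≤ 4 := by
    by_contra h
    have h35 : 3 ^ 5 ∣ 2 * 3 ^ l * 10 := Dvd.dvd.mul_right (dvd_mul_of_dvd_right (pow_dvd_pow 3 (by omega)) _) _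
    have := h35.trans hdiv
    norm_num [Nat.factorial] at this
  interval_cases l <;> revert hsylow <;> norm_num

end Cfsg.Agent.DegTwoP
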